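import Cfsg.Agent.OddHalf.NI.Ex.Defs
import Cfsg.Agent.OddHalf.NI.Final
import Cfsg.Agent.OddHalf.NI.Quot
import Cfsg.Agent.SignalizersComponents.QuasisimpleQuotient

/-!
# (EX): the configuration in `N / Z(N)` (helper803)

`α` an automorphism of the quasisimple group `N`, `α² = 1`, `J ∋ y` a component of `C_N(α)`, `J ≅ SL₂(q)`,
`y ∈ Z(N)` an involution, `J ≠ N`. Then `α` acts on `N / Z(N)` as an automorphism of order 2 and the image of `J`
is a component `L₂(q)` of its centralizer.
-/

set_option autoImplicit false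

namespace Cfsg.Agent.OddHalf.NI.Ex

open Subgroup Cfsg Cfsg.Agent.OddHalf.Iface
open Cfsg.Agent.SignalizersComponents

universe u

variable {N : Type u} [Group N]

theorem map_center (α : MulAut N) : (center N).map (α : N →* N) = center N := by
  ext x
  constructor
  · rintro ⟨y, hy, rfl⟩
    rw [SetLike.mem_coe, mem_center_iff] at hy
    rw [mem_center_iff]
    intro g
    have h := congrArg α (hy (α.symm g))
    rw [map_mul, map_mul, MulEquiv.apply_symm_apply] at h
    exact h
  · intro hx
    refine ⟨α.symm x, ?_, α.apply_symm_apply x⟩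
    rw [SetLike.mem_coe, mem_center_iff]
    intro g
    have h := congrArg α.symm (mem_center_iff.mp hx (α g))
    rw [map_mul, map_mul, MulEquiv.symm_apply_apply] at h
    exact h

/-- the automorphism of `N / Z(N)` induced by `α` -/
noncomputable def bar (α : MulAut N) : MulAut (N ⧸ center N) :=
  QuotientGroup.congr (center N) (center N) α (map_center α)

theorem bar_mk (α : MulAut N) (x : N) : bar α (x : N ⧸ center N) = ((α x : N) : N ⧸ center N) := rfl

/-- An automorphism of a perfect group which is trivial modulo the centre is trivial. -/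
theorem eq_one_of_bar (hp : commutator N = ⊤) {α : MulAut N} (h : bar α = 1) : α = 1 := by
  have h1 : ∀ x : N, x⁻¹ * α x ∈ center N := by
    intro x
    have h2 : bar α (x : N ⧸ center N) = (x : N ⧸ center N) := by rw [h]; rfl
    rw [bar_mk, eq_comm, QuotientGroup.eq] at h2
    exact h2
  have h3 : commutator N ≤ fix α := by
    rw [_root_.commutator_def, Subgroup.commutator_le]
    intro a _ b _
    rw [mem_fix, commutatorElement_def, map_mul, map_mul, map_mul, map_inv, map_inv]
    have ha : α a = a * (a⁻¹ * α a) := by group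
    have hb : α b = b * (b⁻¹ * α b) := by group
    have ca := mem_center_iff.mp (h1 a)
    have cb := mem_center_iff.mp (h1 b)
    set c := a⁻¹ * α a with hc
    set d := b⁻¹ * α b with hd
    rw [ha, hb]
    calc a * c * (b * d) * (a * c)⁻¹ * (b * d)⁻¹
        = a * (c * b) * d * c⁻¹ * a⁻¹ * d⁻¹ * b⁻¹ := by group
      _ = a * b * (c * d) * c⁻¹ * a⁻¹ * d⁻¹ * b⁻¹ := by rw [← ca b]; group
      _ = a * b * (d * c) * c⁻¹ * a⁻¹ * d⁻¹ * b⁻¹ := by rw [← ca d]
      _ = a * b * (d * a⁻¹) * d⁻¹ * b⁻¹ := by group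
      _ = a * b * (a⁻¹ * d) * d⁻¹ * b⁻¹ := by rw [← cb a⁻¹]
      _ = a * b * a⁻¹ * b⁻¹ := by group
  rw [hp] at h3
  ext x
  exact h3 (mem_top x)

theorem bar_mul (α β : MulAut N) : bar (α * β) = bar α * bar β := by
  ext x
  obtain ⟨x, rfl⟩ := QuotientGroup.mk_surjective x
  rfl

theorem bar_one : bar (1 : MulAut N) = 1 := by
  ext x
  obtain ⟨x, rfl⟩ := QuotientGroup.mk_surjective x
  rfl

/-- the preimage of `C_{N/Z}(α)` -/
noncomputable def FZ (α : MulAut N) : Subgroup N := (fix (bar α)).comap (QuotientGroup.mk' (center N))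

theorem mem_FZ {α : MulAut N} {x : N} : x ∈ FZ α ↔ x⁻¹ * α x ∈ center N := by
  rw [FZ, mem_comap, mem_fix, QuotientGroup.mk'_apply, bar_mk, eq_comm, QuotientGroup.eq]

theorem le_FZ (α : MulAut N) : fix α ≤ FZ α := fun x hx => by
  rw [mem_FZ, mem_fix.mp hx, inv_mul_cancel]
  exact one_mem _

theorem normal_subgroupOf (α : MulAut N) : ((fix α).subgroupOf (FZ α)).Normal := by
  refine ⟨fun g hg x => ?_⟩
  rw [mem_subgroupOf, mem_fix] at hg ⊢
  have hx := mem_FZ.mp x.2
  have hxa : α (x : N) = (x : N) * ((x : N)⁻¹ * α x) := by group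
  have hc := mem_center_iff.mp hx
  set c := (x : N)⁻¹ * α x with hcd
  change α ((x : N) * g * (x : N)⁻¹) = (x : N) * g * (x : N)⁻¹
  rw [map_mul, map_mul, map_inv, hg, hxa]
  calc (x : N) * c * g * ((x : N) * c)⁻¹ = (x : N) * (c * g) * c⁻¹ * (x : N)⁻¹ := by group
    _ = (x : N) * (g * c) * c⁻¹ * (x : N)⁻¹ := by rw [hc (g : N)]
    _ = (x : N) * g * (x : N)⁻¹ := by group

theorem subnormal_FZ {α : MulAut N} {J : Subgroup N} (hJ : J ≤ fix α)
    (hs : (J.subgroupOf (fix α)).IsSubnormal) : (J.subgroupOf (FZ α)).IsSubnormal := by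
  have h1 : J.subgroupOf (FZ α) ≤ (fix α).subgroupOf (FZ α) := fun x hx => hJ hx
  refine IsSubnormal.trans h1 ?_ (normal_subgroupOf α).isSubnormal
  have h2 := hs.comap (subgroupOfEquivOfLe (le_FZ α)).toMonoidHom
  convert h2 using 1
  ext x
  rfl

theorem subnormal_map {α : MulAut N} {J : Subgroup N} (hJ : J ≤ fix α)
    (hs : (J.subgroupOf (fix α)).IsSubnormal) :
    (((J.map (QuotientGroup.mk' (center N))).subgroupOf (fix (bar α)))).IsSubnormal := by
  have hsur := MonoidHom.subgroupComap_surjective_of_surjective (QuotientGroup.mk' (center N))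
    (fix (bar α)) (QuotientGroup.mk'_surjective _)
  have h1 := (subnormal_FZ hJ hs).map hsur
  convert h1 using 1
  ext x
  constructor
  · intro hx
    obtain ⟨y, hy, hyx⟩ := mem_subgroupOf.mp hx
    exact ⟨⟨y, le_FZ α (hJ hy)⟩, hy, Subtype.ext hyx⟩
  · rintro ⟨y, hy, rfl⟩
    exact ⟨y, hy, rfl⟩

/-- The image of `J` is `L₂(q)`. -/
theorem isL2_map {J : Subgroup N} {y : N} (hyJ : y ∈ J) (hy : orderOf y = 2) (hyZ : y ∈ center N)
    (hSL : IsSL ↥J) : IsL2 ↥(J.map (QuotientGroup.mk' (center N))) := by
  obtain ⟨F, iF, iF2, hF, h3, ⟨e⟩⟩ := hSL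
  let π : N →* N ⧸ center N := QuotientGroup.mk' (center N)
  have hker : (π.subgroupMap J).ker = center ↥J := by
    ext x
    rw [MonoidHom.mem_ker]
    constructor
    · intro h
      have h1 : (x : N) ∈ center N := (QuotientGroup.eq_one_iff (x : N)).mp (congrArg Subtype.val h)
      rw [mem_center_iff]
      intro g
      exact Subtype.ext (mem_center_iff.mp h1 g)
    · intro h
      apply Subtype.ext
      change π (x : N) = 1
      rcases Quot.sl_center hF e (b := ⟨y, hyJ⟩) (by rw [← orderOf_coe]; exact hy) h with h2 | h2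
      · rw [h2]; exact map_one π
      · rw [h2]
        exact (QuotientGroup.eq_one_iff y).mpr hyZ
  refine ⟨F, iF, iF2, hF, h3, ⟨?_⟩⟩
  have e1 : ↥J ⧸ center ↥J ≃* ↥(J.map π) :=
    (QuotientGroup.quotientMulEquivOfEq hker.symm).trans
      (QuotientGroup.quotientKerEquivOfSurjective _ (π.subgroupMap_surjective J))
  have e2 : ↥J ⧸ center ↥J ≃* Matrix.SpecialLinearGroup (Fin 2) F ⧸ center (Matrix.SpecialLinearGroup (Fin 2) F) :=
    QuotientGroup.congr _ _ e (by
      ext x
      constructor
      · rintro ⟨z, hz, rfl⟩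
        rw [SetLike.mem_coe, mem_center_iff] at hz
        rw [mem_center_iff]
        intro g
        have h := congrArg e (hz (e.symm g))
        rw [map_mul, map_mul, MulEquiv.apply_symm_apply] at h
        exact h
      · intro hx
        refine ⟨e.symm x, ?_, e.apply_symm_apply x⟩
        rw [SetLike.mem_coe, mem_center_iff]
        intro g
        have h := congrArg e.symm (mem_center_iff.mp hx (e g))
        rw [map_mul, map_mul, MulEquiv.symm_apply_apply] at h
        exact h)
  exact e1.symm.trans e2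

/-- **The descent to `N / Z(N)`.** -/
theorem descend [Finite N] (hq : IsQuasisimple N) {α : MulAut N} (hα : α * α = 1) {J : Subgroup N}
    (hJ : CompIn (fix α) J) (hne : J ≠ ⊤) {y : N} (hyJ : y ∈ J) (hy : orderOf y = 2) (hyZ : y ∈ center N)
    (hSL : IsSL ↥J) :
    orderOf (bar α) = 2 ∧ CompIn (fix (bar α)) (J.map (QuotientGroup.mk' (center N))) ∧
      IsL2 ↥(J.map (QuotientGroup.mk' (center N))) := by
  have hL2 := isL2_map hyJ hy hyZ hSL
  refine ⟨?_, ?_, hL2⟩
  · refine orderOf_eq_prime ?_ ?_
    · rw [pow_two, ← bar_mul, hα, bar_one]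
    · intro h
      have h1 := eq_one_of_bar hq.1.commutator_eq_top h
      apply hne
      have h2 : fix α = ⊤ := by
        rw [h1, eq_top_iff]
        intro x _
        rfl
      have h3 := hJ.comp.1
      rw [h2] at h3
      have h4 : CompIn (⊤ : Subgroup N) J := by rw [← h2]; exact hJ
      have h5 := h4.eq_of_le (L := ⊤) (Components.isQuasisimple_of_mulEquiv Subgroup.topEquiv.symm hq) le_rfl le_top
      exact h5
  · refine ⟨?_, subnormal_map hJ.le hJ.comp.1, ?_⟩
    · rintro _ ⟨x, hx, rfl⟩
      rw [mem_fix, QuotientGroup.mk'_apply, bar_mk, mem_fix.mp (hJ.le hx)]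
    · have hle : J.map (QuotientGroup.mk' (center N)) ≤ fix (bar α) := by
        rintro _ ⟨x, hx, rfl⟩
        rw [mem_fix, QuotientGroup.mk'_apply, bar_mk, mem_fix.mp (hJ.le hx)]
      refine Components.isQuasisimple_of_mulEquiv (subgroupOfEquivOfLe hle).symm ?_
      have hnt : Nontrivial ↥(J.map (QuotientGroup.mk' (center N))) := by
        by_contra hn
        rw [not_nontrivial_iff_subsingleton] at hn
        have h5 : J ≤ center N := by
          intro x hx
          rw [← QuotientGroup.eq_one_iff]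
          exact congrArg Subtype.val (Subsingleton.elim
            (⟨QuotientGroup.mk' (center N) x, mem_map_of_mem _ hx⟩ : ↥(J.map (QuotientGroup.mk' (center N)))) 1)
        apply Components.quasisimple_center_ne_top hJ.quasi
        rw [eq_top_iff]
        intro x _
        rw [mem_center_iff]
        intro g
        exact Subtype.ext (mem_center_iff.mp (h5 x.2) g)
      exact QuasisimpleQuotient.isQuasisimple_of_surjective ((QuotientGroup.mk' (center N)).subgroupMap J)
        ((QuotientGroup.mk' (center N)).subgroupMap_surjective J) hJ.quasi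

end Cfsg.Agent.OddHalf.NI.Ex
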