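import Cfsg.Agent.OddHalf.NI.Ex.OfLarge
import Cfsg.Agent.KFacts.Baby.Sheet

/-!
# (EX): the row of the Baby Monster (helper604)
-/

set_option autoImplicit false

namespace Cfsg.Agent.OddHalf.NI.Ex

open Cfsg Cfsg.Agent.KFacts Cfsg.Agent.BabyM Cfsg.Agent.BabyM.Model Cfsg.Agent.BabyU.ClosModel
open Cfsg.Agent.BabyU.ClosLane

theorem hasGood_b {X : Type*} [Group X] [IsSimpleGroup X] (h : Spor.IsoB X) : HasGood X := by
  obtain ⟨e⟩ := Baby.Sheet.exists_iso_of_isoB h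
  have hfin := A.finite_G
  have hs := A.grp.simple
  obtain ⟨π, hπs, hπ⟩ := Baby.Inst.quot A
  obtain ⟨n₀, h1, h2, -⟩ := Baby.Inst.gen A
  have hL := Baby.Inst.large A
  refine HasGood.congr e (hasGood_of_large hL (Baby.Inst.odd_index A) (perf_of_commutator ?_))
  refine LargeE.perfect hL (Baby.Inst.nonab A) π hπs hπ (Baby.Inst.irr' A) ⟨_, h1, ?_, h2⟩
  intro h3
  apply hL.z_ne
  have h4 : n₀ * zz A = n₀ := by
    rw [mul_inv_eq_one] at h3
    exact h3
  simpa using h4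

end Cfsg.Agent.OddHalf.NI.Ex
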