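import Cfsg.Agent.OddHalf.NI.Ex.Defs
import Cfsg.Agent.Cit.Comp
import Cfsg.Agent.OddHalf.D8.WreathLam
import Cfsg.Agent.Lib.ComponentSolvable

/-!
# Node NI, (EX): an involution with a constrained centralizer moves nothing and centralises nothing (helper286)

`X` finite, `a` an automorphism with `a * a = 1`, `z` fixed by `a`, `z * z = 1`, `Q` a normal 2-subgroup of `C(z)` with
`C_{C(z)}(Q) ≤ Q`, `J` a component of `fix a`: then `z` normalises `J` and does not centralise it (`balance`).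

* `no_sub`: no perfect non-trivial `D` is subnormal in `fix a ⊓ C(z)` (`A × B` lemma).
-/

set_option autoImplicit false
set_option linter.style.haveILetI false

namespace Cfsg.Agent.OddHalf.NI.Ex.Balance

open Subgroup Cfsg Cfsg.Agent.OddHalf.Iface Cfsg.Agent.OddHalf.NI.Ex
open Cfsg.Agent.Cit

variable {X : Type*} [Group X]

/-- **The `A × B` lemma with an automorphism.** -/
theorem axb [Finite X] {a : MulAut X} (ha : a * a = 1) {P C : Subgroup X} (hP : ⁅P, P⁆ = P)
    (hPa : ∀ p ∈ P, a p = p) (hC2 : IsPGroup 2 C) (hPC : ∀ p ∈ P, ∀ c ∈ C, p * c * p⁻¹ ∈ C)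
    (haC : ∀ c ∈ C, a c ∈ C) (h : ∀ y ∈ C, a y = y → ∀ p ∈ P, y * p = p * y) :
    ∀ c ∈ C, ∀ p ∈ P, c * p = p * c := by
  let A : Subgroup (MulAut X) := zpowers a
  haveI : Finite (MulAut X) := inferInstance
  let φ : A →* MulAut X := A.subtype
  haveI : Finite (X ⋊[φ] A) := Finite.of_equiv _ SemidirectProduct.equivProd.symm
  let a' : A := ⟨a, mem_zpowers a⟩
  let t : X ⋊[φ] A := SemidirectProduct.inr a'
  have hat : ∀ x : X, t * SemidirectProduct.inl x * t⁻¹ = SemidirectProduct.inl (a x) := fun x => by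
    rw [show t⁻¹ = SemidirectProduct.inr a'⁻¹ from (map_inv _ _).symm]
    exact (SemidirectProduct.inl_aut (φ := φ) a' x).symm
  have tt : t * t = 1 := by
    change SemidirectProduct.inr a' * SemidirectProduct.inr a' = (1 : X ⋊[φ] A)
    rw [← map_mul, show a' * a' = 1 from Subtype.ext ha, map_one]
  have hcm : ∀ x : X, a x = x → SemidirectProduct.inl x * t = t * SemidirectProduct.inl x := by
    intro x hx
    have h1 := hat x
    rw [hx, mul_inv_eq_iff_eq_mul] at h1
    exact h1.symm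
  have hinj : Function.Injective (SemidirectProduct.inl : X →* X ⋊[φ] A) := SemidirectProduct.inl_injective
  have key := D8.WreathLam.axb (G := X ⋊[φ] A) (P := P.map SemidirectProduct.inl)
    (C := C.map SemidirectProduct.inl) (t := t) tt
    (by rw [← map_commutator, hP])
    (by rintro _ ⟨p, hp, rfl⟩; exact hcm p (hPa p hp))
    (hC2.map _)
    (by
      rintro _ ⟨p, hp, rfl⟩ _ ⟨c, hc, rfl⟩
      exact ⟨p * c * p⁻¹, hPC p hp c hc, by simp⟩)
    (by
      rintro _ ⟨c, hc, rfl⟩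
      rw [hat]
      exact ⟨_, haC c hc, rfl⟩)
    (by
      rintro _ ⟨y, hy, rfl⟩ h1 _ ⟨p, hp, rfl⟩
      have h2 : a y = y := by
        apply hinj
        rw [← hat, mul_inv_eq_iff_eq_mul, h1]
      rw [← map_mul, ← map_mul, h y hy h2 p hp])
  intro c hc p hp
  apply hinj
  rw [map_mul, map_mul]
  exact key _ ⟨c, hc, rfl⟩ _ ⟨p, hp, rfl⟩

/-- A perfect subgroup which lies in a 2-group is trivial. -/
theorem eq_bot_of_le [Finite X] {P Q : Subgroup X} (hP : ⁅P, P⁆ = P) (hQ : IsPGroup 2 Q) (h : P ≤ Q) : P = ⊥ :=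
  D8.WreathLam.eq_bot_of_perfect (hQ.to_le h) hP

/-- **No component in `C_{fix a}(z)`**: `Q` a normal 2-subgroup of `C(z)` with `C_{C(z)}(Q) ≤ Q`. -/
theorem no_sub [Finite X] {a : MulAut X} (ha : a * a = 1) {z : X} (az : a z = z) {Q : Subgroup X}
    (hQ : IsPGroup 2 Q) (Qz : ∀ q ∈ Q, q * z = z * q)
    (Qn : ∀ g, g * z = z * g → ∀ q ∈ Q, g * q * g⁻¹ ∈ Q)
    (Qc : ∀ g, g * z = z * g → (∀ q ∈ Q, g * q = q * g) → g ∈ Q)
    {D : Subgroup X} (hDa : ∀ d ∈ D, a d = d) (hDz : ∀ d ∈ D, d * z = z * d)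
    (hD : CompIn (fix a ⊓ centralizer {z}) D) : False := by
  have haa : ∀ x, a (a x) = x := fun x => by
    rw [← MulAut.mul_apply, ha, MulAut.one_apply]
  -- the `a`-invariant group
  let aQ : Subgroup X := Q.map (a : X →* X)
  have haQ : IsPGroup 2 aQ := hQ.map _
  have hQn' : ∀ q ∈ Q, ∀ x ∈ aQ, q * x * q⁻¹ ∈ aQ := by
    rintro q hq _ ⟨y, hy, rfl⟩
    refine ⟨a q * y * (a q)⁻¹, Qn (a q) ?_ y hy, ?_⟩
    · have h1 := congrArg a (Qz q hq)
      rw [map_mul, map_mul, az] at h1
      exact h1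
    · change a (a q * y * (a q)⁻¹) = q * a y * q⁻¹
      rw [map_mul, map_mul, map_inv, haa]
  let R : Subgroup X := Q ⊔ aQ
  have hR2 : IsPGroup 2 R := by
    refine hQ.to_sup_of_normal_right' haQ ?_
    intro q hq
    rw [mem_normalizer_iff]
    intro y
    refine ⟨hQn' q hq y, fun h1 => ?_⟩
    have h2 := hQn' q⁻¹ (Q.inv_mem hq) _ h1
    rwa [inv_inv, show q⁻¹ * (q * y * q⁻¹) * q = y by group] at h2
  have hRz : ∀ r ∈ R, r * z = z * r := by
    have h1 : R ≤ centralizer {z} := by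
      refine sup_le (fun q hq => mem_centralizer_singleton_iff.2 (Qz q hq)) ?_
      rintro _ ⟨y, hy, rfl⟩
      refine mem_centralizer_singleton_iff.2 ?_
      have h2 := congrArg a (Qz y hy)
      rw [map_mul, map_mul, az] at h2
      exact h2
    exact fun r hr => mem_centralizer_singleton_iff.1 (h1 hr)
  have hRn : ∀ g, g * z = z * g → ∀ r ∈ R, g * r * g⁻¹ ∈ R := by
    intro g hg
    have h1 : R ≤ R.comap (MulAut.conj g).toMonoidHom := by
      refine sup_le (fun q hq => ?_) ?_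
      · exact (le_sup_left : Q ≤ R) (Qn g hg q hq)
      · rintro _ ⟨y, hy, rfl⟩
        refine (le_sup_right : aQ ≤ R) ⟨a g * y * (a g)⁻¹, Qn (a g) ?_ y hy, ?_⟩
        · have h2 := congrArg a hg
          rw [map_mul, map_mul, az] at h2
          exact h2
        · change a (a g * y * (a g)⁻¹) = g * a y * g⁻¹
          rw [map_mul, map_mul, map_inv, haa]
    exact fun r hr => h1 hr
  have haR : ∀ r ∈ R, a r ∈ R := by
    have h1 : R ≤ R.comap (a : X →* X) := by
      refine sup_le (fun q hq => ?_) ?_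
      · exact (le_sup_right : aQ ≤ R) ⟨q, hq, rfl⟩
      · rintro _ ⟨y, hy, rfl⟩
        refine (le_sup_left : Q ≤ R) ?_
        change a (a y) ∈ Q
        rwa [haa]
    exact fun r hr => h1 hr
  have hperf : ⁅D, D⁆ = D := hD.perfect
  -- `D` centralises the fixed points of `a` on `R`
  have hfix : ∀ y ∈ R, a y = y → ∀ p ∈ D, y * p = p * y := by
    set H : Subgroup X := fix a ⊓ centralizer {z} with hH
    have hRH : ∀ y ∈ R, a y = y → y ∈ H := fun y hy h1 =>
      ⟨h1, mem_centralizer_singleton_iff.2 (hRz y hy)⟩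
    have h2 : IsPGroup 2 ↥((R ⊓ fix a).subgroupOf H) :=
      (hR2.to_le (inf_le_left : R ⊓ fix a ≤ R)).comap_of_injective _ H.subtype_injective
    haveI : Group.IsNilpotent ↥((R ⊓ fix a).subgroupOf H) := by
      haveI : Fact (Nat.Prime 2) := ⟨Nat.prime_two⟩
      exact h2.isNilpotent
    have h3 := Cfsg.Agent.Lib.ComponentSolvable.commutator_component_solvable_eq_bot hD.comp
      (R := (R ⊓ fix a).subgroupOf H) inferInstance
      (by
        intro x _
        rw [mem_normalizer_iff]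
        have h5 : ∀ x : H, ∀ y ∈ (R ⊓ fix a).subgroupOf H, x * y * x⁻¹ ∈ (R ⊓ fix a).subgroupOf H := by
          intro x y hy
          refine ⟨hRn x (mem_centralizer_singleton_iff.1 x.2.2) y hy.1, ?_⟩
          exact (fix a).mul_mem ((fix a).mul_mem x.2.1 hy.2) ((fix a).inv_mem x.2.1)
        intro y
        refine ⟨h5 x y, fun h6 => ?_⟩
        have h7 := h5 x⁻¹ _ h6
        rwa [inv_inv, show x⁻¹ * (x * y * x⁻¹) * x = y by group] at h7)
    rw [commutator_eq_bot_iff_le_centralizer] at h3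
    intro y hy h1 p hp
    have h4 := mem_centralizer_iff.1 (h3 (show (⟨p, hD.le hp⟩ : H) ∈ D.subgroupOf H from hp))
      ⟨y, hRH y hy h1⟩ ⟨hy, h1⟩
    exact congrArg Subtype.val h4
  have hDR := axb ha hperf hDa hR2 (fun p hp => hRn p (hDz p hp)) haR hfix
  have hDQ : D ≤ Q := by
    intro d hd
    exact Qc d (hDz d hd) fun q hq => (hDR q ((le_sup_left : Q ≤ R) hq) d hd).symm
  have hD1 : D = ⊥ := eq_bot_of_le hperf hQ hDQ
  have h8 := hD.quasi
  have h9 := Cfsg.Agent.SignalizersComponents.Components.quasisimple_center_ne_top h8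
  apply h9
  rw [eq_top_iff]
  intro x _
  rw [mem_center_iff]
  intro g
  apply Subtype.ext
  have h10 : ∀ y : D, (y : X) = 1 := fun y => mem_bot.1 (hD1.le y.2)
  change (g : X) * x = x * g
  rw [h10 g, h10 x]

/-- **LEMMA (balance).** An involution with a constrained centralizer, fixed by `a`, normalises the component `J` of
`fix a` and does not centralise it. -/
theorem balance [Finite X] {a : MulAut X} (ha : a * a = 1) {z : X} (az : a z = z) (zz : z * z = 1) {Q : Subgroup X}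
    (hQ : IsPGroup 2 Q) (Qz : ∀ q ∈ Q, q * z = z * q)
    (Qn : ∀ g, g * z = z * g → ∀ q ∈ Q, g * q * g⁻¹ ∈ Q)
    (Qc : ∀ g, g * z = z * g → (∀ q ∈ Q, g * q = q * g) → g ∈ Q)
    {J : Subgroup X} (hJ : CompIn (fix a) J) :
    (∀ j ∈ J, z * j * z⁻¹ ∈ J) ∧ (∃ j ∈ J, z * j ≠ j * z) := by
  set F := fix a with hF
  let z' : F := ⟨z, az⟩
  have hz' : z' * z' = 1 := Subtype.ext zz
  refine ⟨?_, ?_⟩
  · by_cases hne : cj z' (J.subgroupOf F) = J.subgroupOf F
    · intro j hj
      have h1 : z' * ⟨j, hJ.le hj⟩ * z'⁻¹ ∈ J.subgroupOf F := by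
        rw [← hne]
        exact conj_mem_cj (show (⟨j, hJ.le hj⟩ : F) ∈ J.subgroupOf F from hj)
      exact h1
    · exfalso
      obtain ⟨D, hDz, -, hDc, -, -⟩ := Comp.exists_diag hJ.comp hz' hne
      have h1 : NI.CompIn (centralizer ({z'} : Set F)) D := ⟨hDz, hDc⟩
      have h2 := NI.compIn_map h1
      have h3 : (centralizer ({z'} : Set F)).map F.subtype = F ⊓ centralizer {z} := by
        rw [← NI.subgroupOf_inf_cs z', map_subgroupOf_eq_of_le inf_le_left]
      rw [h3] at h2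
      exact no_sub ha az hQ Qz Qn Qc (D := D.map F.subtype) (fun d hd => (h2.le hd).1)
        (fun d hd => mem_centralizer_singleton_iff.1 (h2.le hd).2) h2
  · by_contra h1
    push_neg at h1
    exact no_sub ha az hQ Qz Qn Qc (D := J) (fun d hd => hJ.le hd) (fun d hd => (h1 d hd).symm)
      (hJ.mono (fun j hj => ⟨hJ.le hj, mem_centralizer_singleton_iff.2 (h1 j hj).symm⟩) inf_le_left)

end Cfsg.Agent.OddHalf.NI.Ex.Balance
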