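import Cfsg.Agent.OddHalf.NI.Ex.GoodDef
import Cfsg.Agent.OddHalf.NI.Ex.Balance
import Cfsg.Agent.OddHalf.NI.Quot
import Cfsg.Agent.OddHalf.D3.RigidSyl
import Cfsg.Agent.OddHalf.D8.Sheet
import Cfsg.Agent.TwoFusion.Isolated
import Cfsg.Agent.TwoFusion.SLTwoFacts

/-!
# LEMMA EX (helper367, bb ODD #12744): the rows `NoCov X` from one involution of `X`

`X` finite, `α` an automorphism of order 2, `J` a component of `fix α`, `z ∈ fix α` an involution with
`C_X(z)` 2-constrained: `z` normalises `J` and does not centralise it (`Balance.balance`).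

* `exists_neg`: a non-trivial automorphism `β`, `β² = 1`, of `SL₂(F)` maps some `x` to `y x`, `y` the involution
  (Glauberman's `Z*`).
* `noCov_of_comm`: if every commutator `[ẑ, g]` which lies in the kernel of a cover is trivial, then `NoCov X`.
* `noCov_of_good`: the same with `Good z`.
* `noCov_of_class`: if the good involutions contain an invariant set of odd order.
-/

set_option autoImplicit false
set_option linter.style.haveILetI false

namespace Cfsg.Agent.OddHalf.NI.Ex.Lemma

open Subgroup Cfsg Cfsg.Agent.OddHalf.Iface Cfsg.Agent.OddHalf.NI Cfsg.Agent.OddHalf.NI.Ex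
open scoped commutatorElement Pointwise
open Cfsg.Agent.SignalizersComponents
open Cfsg.Agent.Involutions.RigidAut (SD sx finite_SD)

universe u

section Neg

variable {J : Type*} [Group J]

theorem sx_conj (α : MulAut J) (x : J) :
    (sx α : SD α) * SemidirectProduct.inl x * (sx α)⁻¹ = SemidirectProduct.inl (α x) := by
  rw [← map_inv SemidirectProduct.inr, ← SemidirectProduct.inl_aut]
  rfl

/-- A non-trivial automorphism `α`, `α² = 1`, of a group with one involution `y` and trivial odd core maps some `x`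
to `y x`. -/
theorem exists_neg [Finite J] (hO : ∀ N : Subgroup J, N.Normal → Odd (Nat.card N) → N = ⊥) {y : J}
    (hy : ∀ u : J, u * u = 1 → u = 1 ∨ u = y) {α : MulAut J} (hα : α * α = 1) (h1 : α ≠ 1) :
    ∃ x : J, α x = y * x := by
  haveI : Fact (Nat.Prime 2) := ⟨Nat.prime_two⟩
  haveI := finite_SD α
  by_contra hcon
  push Not at hcon
  set a : SD α := sx α with ha
  have aa : a * a = 1 := by
    rw [ha, ← map_mul]
    have : (⟨α, mem_zpowers α⟩ : zpowers α) * ⟨α, mem_zpowers α⟩ = 1 := Subtype.ext hα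
    rw [this, map_one]
  have a1 : a ≠ 1 := by
    intro h
    apply h1
    have h2 : (⟨α, mem_zpowers α⟩ : zpowers α) = 1 :=
      SemidirectProduct.inr_injective (by rw [map_one]; exact h)
    exact congrArg Subtype.val h2
  have ha' : a⁻¹ = a := inv_eq_of_mul_eq_one_right aa
  -- the conjugates of `a`
  have hconj : ∀ g : SD α, g * a * g⁻¹ = SemidirectProduct.inl (g.left * (α g.left)⁻¹) * a := by
    intro g
    have e1 : g = SemidirectProduct.inl g.left * SemidirectProduct.inr g.right :=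
      (SemidirectProduct.inl_left_mul_inr_right g).symm
    have e2 : SemidirectProduct.inr g.right * a * (SemidirectProduct.inr g.right)⁻¹ = a := by
      rw [ha, ← map_mul, ← map_inv, ← map_mul]
      congr 1
      apply Subtype.ext
      obtain ⟨n, hn⟩ := mem_zpowers_iff.mp g.right.2
      change (g.right : MulAut J) * α * (g.right : MulAut J)⁻¹ = α
      rw [mul_inv_eq_iff_eq_mul, ← hn]
      exact ((Commute.refl α).zpow_left n).eq
    calc g * a * g⁻¹ = SemidirectProduct.inl g.left * (SemidirectProduct.inr g.right * a *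
          (SemidirectProduct.inr g.right)⁻¹) * (SemidirectProduct.inl g.left)⁻¹ := by
            conv_lhs => rw [e1]
            group
      _ = SemidirectProduct.inl g.left * (a * (SemidirectProduct.inl g.left)⁻¹ * a⁻¹) * a := by
            rw [e2]; group
      _ = SemidirectProduct.inl g.left * SemidirectProduct.inl (α g.left)⁻¹ * a := by
            rw [← map_inv, ha, sx_conj, map_inv]
      _ = _ := by rw [← map_mul]
  have hiso : Cfsg.IsIsolatedInvolution a := by
    refine ⟨orderOf_eq_prime (by rw [pow_two, aa]) a1, ?_⟩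
    intro g hg
    rw [hconj] at hg ⊢
    set u := g.left * (α g.left)⁻¹ with hu
    have hc : a * (SemidirectProduct.inl u * a) = SemidirectProduct.inl u * a * a := hg.eq
    have h3 : SemidirectProduct.inl (α u) = (SemidirectProduct.inl u : SD α) := by
      rw [← sx_conj, ← ha]
      calc a * SemidirectProduct.inl u * a⁻¹ = a * (SemidirectProduct.inl u * a) := by rw [ha', mul_assoc]
        _ = SemidirectProduct.inl u * (a * a) := by rw [hc, mul_assoc]
        _ = _ := by rw [aa, mul_one]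
    have h4 : α u = u := SemidirectProduct.inl_injective h3
    have hαα : ∀ x : J, α (α x) = x := fun x => by
      rw [← MulAut.mul_apply, hα, MulAut.one_apply]
    have h5 : u * u = 1 := by
      have h6 : α u = u⁻¹ := by
        rw [hu, map_mul, map_inv, hαα]
        group
      calc u * u = u * α u := by rw [h4]
        _ = 1 := by rw [h6, mul_inv_cancel]
    rcases hy u h5 with h6 | h6
    · rw [h6, map_one, one_mul]
    · exfalso
      apply hcon g.left
      have h7 : y⁻¹ = y := by rw [← h6]; exact inv_eq_of_mul_eq_one_right h5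
      rw [← h7, ← h6, hu]
      group
  have hI : Cfsg.Agent.Involutions.ZStar.Iso a := by
    refine ⟨aa, fun g => ?_⟩
    have h2 := Cfsg.Agent.TwoFusion.Isolated.odd_orderOf_conj_mul hiso g
    have h3 : a * (g * a * g⁻¹) = a * (g * a * g⁻¹ * a) * a⁻¹ := by group
    rw [h3]
    have h4 := (MulAut.conj a).orderOf_eq (g * a * g⁻¹ * a)
    rw [MulAut.conj_apply] at h4
    rw [h4]
    exact h2
  have hc := Cfsg.Agent.S0215.iso_commutator _ hI
  have hN₀ : (pPrimeCore 2 (SD α)).comap (SemidirectProduct.inl : J →* SD α) = ⊥ := by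
    haveI : (pPrimeCore 2 (SD α)).Normal := Cfsg.Agent.Lib.Cores.pPrimeCore_normal 2
    apply hO _ inferInstance
    refine Odd.of_dvd_nat (Nat.coprime_two_right.mp
      (Cfsg.Agent.Lib.Cores.pPrimeCore_coprime (G := SD α) 2)) ?_
    exact Subgroup.card_comap_dvd_of_injective _ _ SemidirectProduct.inl_injective
  apply h1
  ext g
  have h2 := hc (SemidirectProduct.inl g)
  rw [ha, sx_conj, ← map_inv, ← map_mul] at h2
  have h3 : α g * g⁻¹ ∈ (pPrimeCore 2 (SD α)).comap (SemidirectProduct.inl : J →* SD α) := h2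
  rw [hN₀, mem_bot, mul_inv_eq_one] at h3
  exact h3

end Neg

/-- The version for `SL₂(F)`. -/
theorem IsSL.exists_neg {J : Type*} [Group J] (h : IsSL J) {y : J} (hy : orderOf y = 2) {α : MulAut J}
    (hα : α * α = 1) (h1 : α ≠ 1) : ∃ x : J, α x = y * x := by
  obtain ⟨F, iF, iF2, hF, h3, ⟨e⟩⟩ := h
  haveI : Finite J := Finite.of_equiv _ e.symm.toEquiv
  have h2 : (2 : F) ≠ 0 := by
    intro h
    have h1 : ringChar F ≠ 2 := by
      intro h3
      have h4 := FiniteField.even_card_of_char_two h3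
      rw [Nat.odd_iff] at hF
      omega
    exact h1 (by
      have := ringChar.charP F
      have : ringChar F ∣ 2 := (CharP.cast_eq_zero_iff F (ringChar F) 2).mp (by exact_mod_cast h)
      rcases (Nat.dvd_prime Nat.prime_two).mp this with h4 | h4
      · exfalso
        exact CharP.char_ne_one F (ringChar F) h4
      · exact h4)
  have hsq : ∀ u : J, u * u = 1 → u = 1 ∨ e u = -1 := by
    intro u hu
    have h4 : e u * e u = 1 := by rw [← map_mul, hu, map_one]
    rcases Lib.PSL2Inv.sq_eq_one h2 h4 with h5 | h5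
    · exact Or.inl (e.injective (by rw [h5, map_one]))
    · exact Or.inr h5
  have hey : e y = -1 := by
    rcases hsq y (by rw [← pow_two, ← hy, pow_orderOf_eq_one]) with h4 | h4
    · rw [h4, orderOf_one] at hy
      omega
    · exact h4
  refine Lemma.exists_neg ?_ ?_ hα h1
  · intro N hN hodd
    have h4 : oddCore J = ⊥ := by
      have h1 := Cit.ParabSL2.oddCore_sl hF
      have h2 := Lib.Cores.map_equiv_pPrimeCore e 2
      rw [eq_bot_iff]
      intro x hx
      have h3 : e x ∈ (oddCore J).map e.toMonoidHom := ⟨x, hx, rfl⟩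
      rw [show (oddCore J).map e.toMonoidHom = oddCore _ from h2, h1, mem_bot] at h3
      rw [mem_bot]
      exact e.injective (by rw [h3, map_one])
    rw [eq_bot_iff, ← h4]
    exact Lib.Cores.le_pPrimeCore hN (Nat.coprime_two_right.2 hodd)
  · intro u hu
    rcases hsq u hu with h4 | h4
    · exact Or.inl h4
    · exact Or.inr (e.injective (by rw [h4, hey]))

section Main

variable {X : Type u} [Group X]

/-- `C_X(z)` is 2-constrained. -/
def Con (z : X) : Prop :=
  ∃ Q : Subgroup X, IsPGroup 2 ↥Q ∧ Q ≤ centralizer ({z} : Set X) ∧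
    (∀ h ∈ centralizer ({z} : Set X), ∀ q ∈ Q, h * q * h⁻¹ ∈ Q) ∧
    ∀ h ∈ centralizer ({z} : Set X), (∀ q ∈ Q, h * q = q * h) → h ∈ Q

/-- **Balance**, over `Con`. -/
theorem Con.balance {X : Type*} [Group X] [Finite X] {z : X} (h : Con z) {α : MulAut X} (hα : α * α = 1)
    (hz : α z = z) (zz : z * z = 1) {J : Subgroup X} (hJ : CompIn (fix α) J) :
    (∀ j ∈ J, z * j * z⁻¹ ∈ J) ∧ ∃ j ∈ J, z * j ≠ j * z := by
  obtain ⟨Q, h2, hc, hn, hs⟩ := h
  exact Balance.balance hα hz zz h2 (fun q hq => mem_centralizer_singleton_iff.mp (hc hq))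
    (fun g hg => hn g (mem_centralizer_singleton_iff.mpr hg))
    (fun g hg => hs g (mem_centralizer_singleton_iff.mpr hg)) hJ

/-- In a cover of `X` with kernel a 2-group, a commutator with a preimage of `z` is not the involution `y`
of the kernel. -/
def NoComm (z : X) : Prop :=
  ∀ (N : Type u) [Group N] [Finite N] (f : N →* X), Function.Surjective f → f.ker ≤ center N →
    IsPGroup 2 ↥f.ker → commutator N = ⊤ → ∀ w g : N, f w = z → w * g * w⁻¹ * g⁻¹ ∈ f.ker →
      orderOf (w * g * w⁻¹ * g⁻¹) ≠ 2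

/-- **LEMMA EX.** -/
theorem noCov_of_comm [Finite X]
    (hz : ∀ α : MulAut X, orderOf α = 2 → ∃ z : X, orderOf z = 2 ∧ α z = z ∧ Con z ∧ NoComm z) : NoCov X := by
  intro N _ _ f hf hker hker2 hN J y hyJ hy hfy hSL α hα hJ _
  obtain ⟨z, hz2, hαz, hcon, hnc⟩ := hz α hα
  have hαα : α * α = 1 := by rw [← pow_two, ← hα, pow_orderOf_eq_one]
  have zz : z * z = 1 := by rw [← pow_two, ← hz2, pow_orderOf_eq_one]
  obtain ⟨hnorm, j, hj, hjz⟩ := hcon.balance hαα hαz zz hJ
  obtain ⟨w, hw⟩ := hf z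
  have hzinv : z⁻¹ = z := inv_eq_of_mul_eq_one_right zz
  -- `w` normalises `J ker f`, so `J`
  have hJJ : ⁅J, J⁆ = J := by
    obtain ⟨F, iF, iF2, hF, h3, ⟨e⟩⟩ := hSL
    have h1 : commutator (Matrix.SpecialLinearGroup (Fin 2) F) = ⊤ :=
      Cfsg.Agent.TwoFusion.SLTwoFacts.commutator_eq_top h3
    have h2 : commutator ↥J = ⊤ := by
      have h4 : (commutator (Matrix.SpecialLinearGroup (Fin 2) F)).map e.symm.toMonoidHom = commutator ↥J := by
        rw [_root_.commutator_def, _root_.commutator_def, map_commutator, ← MonoidHom.range_eq_map,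
          MonoidHom.range_eq_top.2 e.symm.surjective]
      rw [← h4, h1, ← MonoidHom.range_eq_map, MonoidHom.range_eq_top.2 e.symm.surjective]
    have h4 := congrArg (Subgroup.map J.subtype) h2
    rwa [_root_.commutator_def, map_commutator, ← MonoidHom.range_eq_map, range_subtype] at h4
  have key : ∀ v : N, (∀ x ∈ J.map f, f v * x * (f v)⁻¹ ∈ J.map f) → ∀ x ∈ J, v * x * v⁻¹ ∈ J := by
    intro v hv
    have h1 : ∀ x ∈ J, ∃ x' ∈ J, ∃ c ∈ center N, v * x * v⁻¹ = x' * c := by
      intro x hx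
      obtain ⟨x', hx', h2⟩ := hv (f x) (mem_map_of_mem f hx)
      refine ⟨x', hx', x'⁻¹ * (v * x * v⁻¹), hker ?_, by group⟩
      rw [MonoidHom.mem_ker, map_mul, map_inv, map_mul, map_mul, map_inv, h2]
      group
    have h2 : J.map (MulAut.conj v).toMonoidHom ≤ J := by
      conv_lhs => rw [← hJJ]
      rw [map_commutator, commutator_le]
      rintro _ ⟨a, ha, rfl⟩ _ ⟨b, hb, rfl⟩
      obtain ⟨a', ha', c, hc, h3⟩ := h1 a ha
      obtain ⟨b', hb', d, hd, h4⟩ := h1 b hb
      have h5 : (MulAut.conj v).toMonoidHom a = a' * c := h3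
      have h6 : (MulAut.conj v).toMonoidHom b = b' * d := h4
      rw [h5, h6]
      have hc' := mem_center_iff.mp hc
      have hd' := mem_center_iff.mp hd
      have h7 : ⁅a' * c, b' * d⁆ = ⁅a', b'⁆ := by
        rw [commutatorElement_def, commutatorElement_def]
        calc a' * c * (b' * d) * (a' * c)⁻¹ * (b' * d)⁻¹
            = a' * (c * b') * d * c⁻¹ * a'⁻¹ * d⁻¹ * b'⁻¹ := by group
          _ = a' * b' * (c * d) * c⁻¹ * a'⁻¹ * d⁻¹ * b'⁻¹ := by rw [← hc' b']; group
          _ = a' * b' * (d * c) * c⁻¹ * a'⁻¹ * d⁻¹ * b'⁻¹ := by rw [← hc' d]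
          _ = a' * b' * (d * a'⁻¹) * d⁻¹ * b'⁻¹ := by group
          _ = a' * b' * (a'⁻¹ * d) * d⁻¹ * b'⁻¹ := by rw [← hd' a'⁻¹]
          _ = a' * b' * a'⁻¹ * b'⁻¹ := by group
      rw [h7]
      exact J.mul_mem (J.mul_mem (J.mul_mem ha' hb') (J.inv_mem ha')) (J.inv_mem hb')
    intro x hx
    exact h2 ⟨x, hx, rfl⟩
  have hw1 : ∀ x ∈ J.map f, f w * x * (f w)⁻¹ ∈ J.map f := by
    rw [hw]; exact hnorm
  have hw2 : w ∈ normalizer (J : Set N) := by
    rw [mem_normalizer_iff]
    intro x
    refine ⟨key w hw1 x, fun hx => ?_⟩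
    have h1 := key w⁻¹ (by
      rw [map_inv, hw, hzinv, hzinv]
      intro x hx
      have := hnorm x hx
      rwa [hzinv] at this) _ hx
    have e : w⁻¹ * (w * x * w⁻¹) * w⁻¹⁻¹ = x := by group
    rwa [e] at h1
  let β : MulAut ↥J := J.normalizerMonoidHom ⟨w, hw2⟩
  have hβ : ∀ x : ↥J, ((β x : ↥J) : N) = w * x * w⁻¹ := fun x => rfl
  have hww : ∀ x : N, (w * w) * x = x * (w * w) := by
    have h1 : w * w ∈ center N := hker (by rw [MonoidHom.mem_ker, map_mul, hw, zz])
    exact fun x => (mem_center_iff.mp h1 x).symm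
  have hββ : β * β = 1 := by
    ext x
    change w * (w * x * w⁻¹) * w⁻¹ = x
    calc w * (w * x * w⁻¹) * w⁻¹ = ((w * w) * x) * (w * w)⁻¹ := by group
      _ = x := by rw [hww, mul_inv_cancel_right]
  have hβ1 : β ≠ 1 := by
    intro h
    obtain ⟨x, hx, rfl⟩ := hj
    apply hjz
    have h1 : w * x * w⁻¹ = x := by
      have h2 := hβ ⟨x, hx⟩
      rw [h] at h2
      exact h2.symm
    rw [← hw, ← map_mul, ← map_mul]
    congr 1
    rwa [mul_inv_eq_iff_eq_mul] at h1
  obtain ⟨x, hx⟩ := IsSL.exists_neg hSL (y := ⟨y, hyJ⟩) (by rw [← Subgroup.orderOf_coe]; exact hy) hββ hβ1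
  have h1 : w * x * w⁻¹ = y * x := by
    have h2 := hβ x
    rw [hx] at h2
    exact h2.symm
  have h2 : w * x * w⁻¹ * (x : N)⁻¹ = y := by rw [h1]; group
  exact hnc N f hf hker hker2 hN w x hw (by rw [h2, MonoidHom.mem_ker, hfy]) (by rw [h2]; exact hy)

/-- `Good z` implies `NoComm z`: the preimage of `C_X(z)` centralises the preimage of `z`. -/
theorem Good.comm {z : X} (hg : Good z) {N : Type*} [Group N] {f : N →* X} (hf : Function.Surjective f)
    (hker : f.ker ≤ center N) (hker2 : IsPGroup 2 ↥f.ker) {w g : N} (hw : f w = z)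
    (h : w * g * w⁻¹ * g⁻¹ ∈ f.ker) : w * g = g * w := by
  -- the group of elements of `X` whose preimages commute with `w`
  set K : Subgroup X := (centralizer ({w} : Set N)).map f with hK
  have hKpre : ∀ g : N, f g ∈ K → w * g = g * w := by
    rintro g ⟨g', hg', h1⟩
    have h2 : g'⁻¹ * g ∈ center N := hker (by rw [MonoidHom.mem_ker, map_mul, map_inv, h1, inv_mul_cancel])
    have h3 := mem_center_iff.mp h2 w
    have h4 : g' * w = w * g' := mem_centralizer_singleton_iff.mp hg'
    calc w * g = (w * g') * (g'⁻¹ * g) := by group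
      _ = g' * (w * (g'⁻¹ * g)) := by rw [← h4]; group
      _ = g' * ((g'⁻¹ * g) * w) := by rw [h3]
      _ = g * w := by group
  have hfg : f g ∈ centralizer ({z} : Set X) := by
    rw [mem_centralizer_singleton_iff]
    have h1 : f (w * g * w⁻¹ * g⁻¹) = 1 := h
    rw [map_mul, map_mul, map_mul, map_inv, map_inv, hw, mul_inv_eq_one, mul_inv_eq_iff_eq_mul] at h1
    exact h1.symm
  apply hKpre
  have hle : centralizer ({z} : Set X) ≤ K := by
    refine hg.gen.trans ?_
    rw [closure_le]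
    rintro x ⟨hx, hcase⟩
    rcases hcase with hodd | hpow
    · -- odd order
      obtain ⟨v, hv⟩ := hf x
      -- replace `v` by a power of odd order
      obtain ⟨k, hk⟩ := hodd
      have hxo : x ^ (2 * k + 1) = 1 := by rw [← hk, pow_orderOf_eq_one]
      set c := w * v * w⁻¹ * v⁻¹ with hc
      have hcker : c ∈ f.ker := by
        rw [MonoidHom.mem_ker, hc, map_mul, map_mul, map_mul, map_inv, map_inv, hw, hv]
        have h1 := mem_centralizer_singleton_iff.mp hx
        rw [← h1]; group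
      have hcc := mem_center_iff.mp (hker hcker)
      have h1 : w * v * w⁻¹ = v * c := by
        rw [hcc v, hc]; group
      have h2 : ∀ n : ℕ, w * v ^ n * w⁻¹ = v ^ n * c ^ n := by
        intro n
        have h3 : (w * v * w⁻¹) ^ n = w * v ^ n * w⁻¹ := conj_pow
        rw [← h3, h1]
        exact (Commute.mul_pow (hcc v) n)
      have h3 : v ^ (2 * k + 1) ∈ center N := hker (by rw [MonoidHom.mem_ker, map_pow, hv, hxo])
      have h4 : c ^ (2 * k + 1) = 1 := by
        have h5 := h2 (2 * k + 1)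
        rw [mem_center_iff.mp h3 w, mul_inv_cancel_right] at h5
        exact (mul_eq_left.mp h5.symm)
      obtain ⟨n, hn⟩ := hker2 ⟨c, hcker⟩
      have hn' : c ^ 2 ^ n = 1 := congrArg Subtype.val hn
      have h5 : orderOf c ∣ 1 := by
        have h6 : Nat.Coprime (2 ^ n) (2 * k + 1) :=
          Nat.Coprime.pow_left n (Nat.coprime_two_left.mpr ⟨k, rfl⟩)
        rw [← h6]
        exact Nat.dvd_gcd (orderOf_dvd_of_pow_eq_one hn') (orderOf_dvd_of_pow_eq_one h4)
      have h6 : c = 1 := orderOf_eq_one_iff.mp (Nat.dvd_one.mp h5)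
      refine ⟨v, ?_, hv⟩
      rw [SetLike.mem_coe, mem_centralizer_singleton_iff]
      rw [h6, mul_one, mul_inv_eq_iff_eq_mul] at h1
      exact h1.symm
    · -- roots of `z`
      obtain ⟨v, hv⟩ := hf x
      obtain ⟨n, hn⟩ := mem_zpowers_iff.mp hpow
      refine ⟨v, ?_, hv⟩
      rw [SetLike.mem_coe, mem_centralizer_singleton_iff]
      have h1 : (v ^ n)⁻¹ * w ∈ center N := hker (by
        rw [MonoidHom.mem_ker, map_mul, map_inv, map_zpow, hv, hw, hn, inv_mul_cancel])
      have h2 := mem_center_iff.mp h1 v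
      have h3 : w = v ^ n * ((v ^ n)⁻¹ * w) := by group
      have h4 : v * v ^ n = v ^ n * v := (Commute.refl v).zpow_right n
      rw [h3]
      calc v * (v ^ n * ((v ^ n)⁻¹ * w)) = v * v ^ n * ((v ^ n)⁻¹ * w) := by rw [mul_assoc]
        _ = v ^ n * (v * ((v ^ n)⁻¹ * w)) := by rw [h4, mul_assoc]
        _ = v ^ n * ((v ^ n)⁻¹ * w) * v := by rw [h2]; group
  exact hle hfg

theorem Good.noComm {z : X} (hg : Good z) : NoComm z := by
  intro N _ _ f hf hker hker2 _ w g hw h h2
  have h3 := Good.comm hg hf hker hker2 hw h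
  rw [h3, mul_inv_cancel_right, mul_inv_cancel, orderOf_one] at h2
  omega

/-- **LEMMA EX**, the form of helper803. -/
theorem noCov_of_good [Finite X]
    (h : ∀ α : MulAut X, orderOf α = 2 → ∃ z : X, orderOf z = 2 ∧ α z = z ∧ Good z) : NoCov X :=
  noCov_of_comm fun α hα => by
    obtain ⟨z, h1, h2, h3⟩ := h α hα
    exact ⟨z, h1, h2, h3.con, Good.noComm h3⟩

/-- An automorphism of order 2 fixes a point of an invariant set of odd order. -/
theorem exists_fixed [Finite X] {D : Set X} (hD : Odd D.ncard) {α : MulAut X} (hα : α * α = 1)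
    (hinv : ∀ z ∈ D, α z ∈ D) : ∃ z ∈ D, α z = z := by
  classical
  haveI : Fintype X := Fintype.ofFinite X
  have hαα : ∀ x : X, α (α x) = x := fun x => by
    rw [← MulAut.mul_apply, hα, MulAut.one_apply]
  let σ : Equiv.Perm D :=
    { toFun := fun z => ⟨α z, hinv z z.2⟩
      invFun := fun z => ⟨α z, hinv z z.2⟩
      left_inv := fun z => Subtype.ext (hαα z)
      right_inv := fun z => Subtype.ext (hαα z) }
  haveI : Fact (Nat.Prime 2) := ⟨Nat.prime_two⟩
  have hcard : ¬ 2 ∣ Fintype.card D := by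
    rw [← Nat.card_eq_fintype_card, Nat.card_coe_set_eq]
    intro h
    exact (Nat.not_even_iff_odd.mpr hD) (even_iff_two_dvd.mpr h)
  have hσ : σ ^ 2 ^ 1 = 1 := by
    ext z
    rw [pow_one, pow_two]
    exact hαα z
  obtain ⟨z, hz⟩ := Equiv.Perm.exists_fixed_point_of_prime hcard hσ
  exact ⟨z, z.2, congrArg Subtype.val hz⟩

/-- **LEMMA EX** for an invariant set of odd order of good involutions. -/
theorem noCov_of_class [Finite X] {D : Set X} (hD : Odd D.ncard) (hinv : ∀ α : MulAut X, orderOf α = 2 → ∀ z ∈ D, α z ∈ D)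
    (h2 : ∀ z ∈ D, orderOf z = 2) (hg : ∀ z ∈ D, Good z) : NoCov X :=
  noCov_of_good fun α hα => by
    obtain ⟨z, hz, h1⟩ := exists_fixed hD (by rw [← pow_two, ← hα, pow_orderOf_eq_one]) (hinv α hα)
    exact ⟨z, h2 z hz, h1, hg z hz⟩

/-- transport of `Good` -/
theorem Good.map {X Y : Type*} [Group X] [Group Y] {z : X} (h : Good z) (e : X ≃* Y) : Good (e z) := by
  have hcent : ∀ g : Y, g ∈ centralizer ({e z} : Set Y) ↔ e.symm g ∈ centralizer ({z} : Set X) := by
    intro g
    rw [mem_centralizer_singleton_iff, mem_centralizer_singleton_iff]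
    constructor
    · intro h1
      apply e.injective
      rw [map_mul, map_mul, MulEquiv.apply_symm_apply, h1]
    · intro h1
      have h2 := congrArg e h1
      rwa [map_mul, map_mul, MulEquiv.apply_symm_apply] at h2
  refine ⟨?_, ?_⟩
  · obtain ⟨Q, h2, hc, hn, hs⟩ := h.con
    refine ⟨Q.map (e : X →* Y), h2.map _, ?_, ?_, ?_⟩
    · rintro _ ⟨q, hq, rfl⟩
      rw [hcent]
      change e.symm (e q) ∈ _
      rw [MulEquiv.symm_apply_apply]
      exact hc hq
    · rintro g hg _ ⟨q, hq, rfl⟩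
      refine ⟨e.symm g * q * (e.symm g)⁻¹, hn _ ((hcent g).mp hg) q hq, ?_⟩
      change e (e.symm g * q * (e.symm g)⁻¹) = g * e q * g⁻¹
      rw [map_mul, map_mul, map_inv, MulEquiv.apply_symm_apply]
    · intro g hg h1
      refine ⟨e.symm g, hs _ ((hcent g).mp hg) ?_, e.apply_symm_apply g⟩
      intro q hq
      have h3 := h1 (e q) ⟨q, hq, rfl⟩
      apply e.injective
      rw [map_mul, map_mul, MulEquiv.apply_symm_apply, h3]
  · intro g hg
    have h1 := h.gen ((hcent g).mp hg)
    have h2 := mem_map_of_mem (e : X →* Y) h1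
    rw [MonoidHom.map_closure] at h2
    change e (e.symm g) ∈ _ at h2
    rw [MulEquiv.apply_symm_apply] at h2
    refine Subgroup.closure_mono ?_ h2
    rintro _ ⟨x, ⟨hx, hcase⟩, rfl⟩
    change e x ∈ _ ∧ (Odd (orderOf (e x)) ∨ _ ∈ zpowers (e x))
    refine ⟨?_, ?_⟩
    · rw [hcent, MulEquiv.symm_apply_apply]; exact hx
    · rcases hcase with h3 | h3
      · left
        rwa [e.orderOf_eq]
      · right
        obtain ⟨n, hn⟩ := mem_zpowers_iff.mp h3
        exact mem_zpowers_iff.mpr ⟨n, by rw [← map_zpow, hn]⟩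

/-- `Good z` if `C(z)` is 2-constrained and perfect. -/
theorem good_of_perfect {X : Type*} [Group X] [Finite X] {z : X} (h : Con z)
    (hp : ⁅centralizer ({z} : Set X), centralizer ({z} : Set X)⁆ = centralizer ({z} : Set X)) : Good z := by
  refine ⟨h, ?_⟩
  refine D8.WreathLam.perfect_le hp ?_ fun x hx hodd => Subgroup.subset_closure ⟨hx, Or.inl hodd⟩
  intro p hp' 
  have h1 : (Subgroup.closure {h | h ∈ centralizer ({z} : Set X) ∧ (Odd (orderOf h) ∨ z ∈ zpowers h)}).map
      (MulAut.conj p).toMonoidHom ≤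
      Subgroup.closure {h | h ∈ centralizer ({z} : Set X) ∧ (Odd (orderOf h) ∨ z ∈ zpowers h)} := by
    rw [MonoidHom.map_closure]
    refine Subgroup.closure_mono ?_
    rintro _ ⟨x, ⟨hx, hcase⟩, rfl⟩
    refine ⟨mul_mem (mul_mem hp' hx) (inv_mem hp'), ?_⟩
    rcases hcase with h3 | h3
    · left
      have h4 := (MulAut.conj p).orderOf_eq x
      change orderOf ((MulAut.conj p).toMonoidHom x) = _ at h4
      rwa [h4]
    · right
      obtain ⟨n, hn⟩ := mem_zpowers_iff.mp h3
      refine mem_zpowers_iff.mpr ⟨n, ?_⟩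
      rw [← map_zpow, hn]
      change p * z * p⁻¹ = z
      rw [mem_centralizer_singleton_iff.mp hp', mul_inv_cancel_right]
  intro x hx
  exact h1 ⟨x, hx, rfl⟩

/-- An automorphism of order 2 normalises a Sylow 2-subgroup. -/
theorem exists_sylow_fixed {X : Type*} [Group X] [Finite X] {α : MulAut X} (hα : α * α = 1) :
    ∃ S : Sylow 2 X, ∀ x ∈ S, α x ∈ S := by
  classical
  haveI : Fact (Nat.Prime 2) := ⟨Nat.prime_two⟩
  haveI : Fintype (Sylow 2 X) := Fintype.ofFinite _
  let σ : Equiv.Perm (Sylow 2 X) := MulAction.toPermHom (MulAut X) (Sylow 2 X) α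
  have hσ : σ ^ 2 ^ 1 = 1 := by
    rw [pow_one, pow_two, ← map_mul, hα, map_one]
  have hcard : ¬ 2 ∣ Fintype.card (Sylow 2 X) := by
    rw [← Nat.card_eq_fintype_card]
    exact not_dvd_card_sylow 2 X
  obtain ⟨S, hS⟩ := Equiv.Perm.exists_fixed_point_of_prime hcard hσ
  refine ⟨S, fun x hx => ?_⟩
  have h1 : α • S = S := hS
  have h2 : α • x ∈ (α • S : Sylow 2 X) := Subgroup.smul_mem_pointwise_smul x α (S : Subgroup X) hx
  rw [h1] at h2
  exact h2

/-- `z` is the only involution of `Z(S)`: every automorphism of order 2 fixes a conjugate of `z`. -/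
theorem exists_fixed_conj {X : Type*} [Group X] [Finite X] (S : Sylow 2 X) {z : X} (zS : z ∈ S) (z1 : z ≠ 1)
    (zz : z * z = 1) (zc : ∀ s ∈ S, s * z = z * s)
    (hu : ∀ u ∈ S, (∀ s ∈ S, s * u = u * s) → u * u = 1 → u = 1 ∨ u = z) {α : MulAut X} (hα : α * α = 1) :
    ∃ g : X, α (g * z * g⁻¹) = g * z * g⁻¹ := by
  haveI : Fact (Nat.Prime 2) := ⟨Nat.prime_two⟩
  obtain ⟨T, hT⟩ := exists_sylow_fixed hα
  obtain ⟨g, hg⟩ := MulAction.exists_smul_eq X S T
  have hαα : ∀ x : X, α (α x) = x := fun x => by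
    rw [← MulAut.mul_apply, hα, MulAut.one_apply]
  have hgT : ∀ x : X, x ∈ T ↔ g⁻¹ * x * g ∈ S := by
    intro x
    rw [← hg]
    change x ∈ (MulAut.conj g • (S : Subgroup X)) ↔ _
    rw [Subgroup.mem_pointwise_smul_iff_inv_smul_mem, ← map_inv, MulAut.smul_def, MulAut.conj_apply, inv_inv]
    rfl
  refine ⟨g, ?_⟩
  set v := g * z * g⁻¹ with hv
  have hvT : v ∈ T := by
    rw [hgT, hv]
    have e : g⁻¹ * (g * z * g⁻¹) * g = z := by group
    rw [e]; exact zS
  have hvc : ∀ t ∈ T, t * v = v * t := by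
    intro t ht
    have h1 := zc _ ((hgT t).mp ht)
    calc t * v = g * (g⁻¹ * t * g * z) * g⁻¹ := by rw [hv]; group
      _ = g * (z * (g⁻¹ * t * g)) * g⁻¹ := by rw [h1]
      _ = v * t := by rw [hv]; group
  -- `g⁻¹ (α v) g`
  have h2 := hu (g⁻¹ * α v * g) ((hgT _).mp (hT v hvT)) (by
    intro s hs
    have h3 : g * s * g⁻¹ ∈ T := by
      rw [hgT]
      have e : g⁻¹ * (g * s * g⁻¹) * g = s := by group
      rw [e]; exact hs
    have key : ∀ w ∈ T, w * α v = α v * w := by
      intro w hw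
      have h6 := congrArg α (hvc _ (hT _ hw))
      rwa [map_mul α (α w) v, map_mul α v (α w), hαα] at h6
    have h5 := key _ h3
    calc s * (g⁻¹ * α v * g) = g⁻¹ * (g * s * g⁻¹ * α v) * g := by group
      _ = g⁻¹ * (α v * (g * s * g⁻¹)) * g := by rw [h5]
      _ = _ := by group) (by
    have h3 : α v * α v = 1 := by
      rw [← map_mul, hv]
      have e : g * z * g⁻¹ * (g * z * g⁻¹) = g * (z * z) * g⁻¹ := by group
      rw [e, zz, mul_one, mul_inv_cancel, map_one]
    calc g⁻¹ * α v * g * (g⁻¹ * α v * g) = g⁻¹ * (α v * α v) * g := by group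
      _ = 1 := by rw [h3]; group)
  rcases h2 with h3 | h3
  · exfalso
    apply z1
    have h4 : α v = 1 := by
      calc α v = g * (g⁻¹ * α v * g) * g⁻¹ := by group
        _ = 1 := by rw [h3]; group
    have h5 : v = 1 := by rw [← hαα v, h4, map_one]
    calc z = g⁻¹ * v * g := by rw [hv]; group
      _ = 1 := by rw [h5]; group
  · calc α v = g * (g⁻¹ * α v * g) * g⁻¹ := by group
      _ = v := by rw [h3]

/-- transport along an isomorphism -/
theorem noCov_of_equiv {X : Type u} [Group X] {Y : Type*} [Group Y] [Finite Y] (e : X ≃* Y)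
    (h : ∀ α : MulAut Y, orderOf α = 2 → ∃ z : Y, orderOf z = 2 ∧ α z = z ∧ Good z) : NoCov X := by
  haveI : Finite X := Finite.of_equiv _ e.symm.toEquiv
  apply noCov_of_good
  intro α hα
  have h1 : orderOf (MulAut.congr e α) = 2 := by
    rw [MulEquiv.orderOf_eq, hα]
  obtain ⟨z, hz, hαz, hg⟩ := h _ h1
  refine ⟨e.symm z, ?_, ?_, Good.map hg e.symm⟩
  · rw [e.symm.orderOf_eq, hz]
  · apply e.injective
    rw [MulEquiv.apply_symm_apply]
    exact hαz

/-- **LEMMA EX**, Sylow form: `z` is good and the only involution of `Z(S)`. -/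
theorem noCov_of_sylow {X : Type u} [Group X] {Y : Type*} [Group Y] [Finite Y] (e : X ≃* Y) (S : Sylow 2 Y)
    {z : Y} (zS : z ∈ S) (z1 : z ≠ 1) (zz : z * z = 1) (zc : ∀ s ∈ S, s * z = z * s)
    (hu : ∀ u ∈ S, (∀ s ∈ S, s * u = u * s) → u * u = 1 → u = 1 ∨ u = z) (hg : Good z) : NoCov X := by
  apply noCov_of_equiv e
  intro α hα
  obtain ⟨g, h1⟩ := exists_fixed_conj S zS z1 zz zc hu (α := α) (by rw [← pow_two, ← hα, pow_orderOf_eq_one])
  have h2 : MulAut.conj g z = g * z * g⁻¹ := rfl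
  refine ⟨g * z * g⁻¹, ?_, h1, ?_⟩
  · rw [← h2, MulEquiv.orderOf_eq]
    exact orderOf_eq_prime (by rw [pow_two, zz]) z1
  · rw [← h2]
    exact Good.map hg _

/-- **LEMMA EX** from the D8 sheet of type (E) with `P = C(z)`. -/
theorem noCov_of_sheetE {X : Type u} [Group X] {Y : Type*} [Group Y] [Finite Y] (e : X ≃* Y) {z : Y}
    {R : Subgroup Y} (h : D8.Sheet.SheetE z (centralizer ({z} : Set Y)) R) : NoCov X := by
  obtain ⟨S, zS, zc, hu⟩ := h.syl
  refine noCov_of_sylow e S zS h.z1 h.zz zc (fun u hu1 hu2 _ => hu u hu1 hu2) ?_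
  exact good_of_perfect ⟨R, h.R2, h.RP, h.Rn, h.cR⟩ h.perf

end Main

end Cfsg.Agent.OddHalf.NI.Ex.Lemma
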