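import Cfsg.Agent.OddHalf.NI.Ex.Cut
import Cfsg.Agent.OddHalf.NI.Ex.Lemma
import Cfsg.Agent.OddHalf.NI.Ex.HasB

/-!
# (EX): the row of the Baby Monster (helper604)
-/

set_option autoImplicit false

namespace Cfsg.Agent.OddHalf.NI.Ex.RowB

open Cfsg Cfsg.Agent.OddHalf.NI.Ex

universe u

/-- **The row `B`.** -/
theorem b : XRow.{u} (fun X _ => Spor.IsoB X) :=
  fun _ _ _ hs _ h => Lemma.noCov_of_good (@hasGood_b _ _ hs h)

end Cfsg.Agent.OddHalf.NI.Ex.RowB
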