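import Cfsg.Agent.OddHalf.NI.Ex.OfLarge
import Cfsg.Agent.KFacts.Co1.InCo1
import Cfsg.Agent.CoOneType.ClosingCo1

/-!
# (EX): the row of the Conway group `Co₁` (helper604)
-/

set_option autoImplicit false

namespace Cfsg.Agent.OddHalf.NI.Ex

open Cfsg Cfsg.Agent.KFacts

theorem hasGood_co1 {X : Type*} [Group X] [Finite X] (h : Spor.IsoCo1 X) : HasGood X := by
  obtain ⟨e⟩ := h
  have : Finite Spor.Co1 := Finite.of_equiv X e.toEquiv
  obtain ⟨o, ho⟩ := Cfsg.Agent.CoOneType.ClosingCo1.exists_octad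
  exact (hasGood_of_large (Co1.InCo1.large ho) (Co1.InCo1.odd_index ho) (Co1.InCo1.comm_eq ho)).congr e.symm

end Cfsg.Agent.OddHalf.NI.Ex
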