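import Cfsg.Agent.OddHalf.NI.Ex.OfSheet
import Cfsg.Agent.OddHalf.D9.Cut
import Cfsg.Agent.GTwoFour.MdlRed

/-!
# (EX): the row `G₂(4)` (helper604)

The long root elements form a class of 4095 involutions; their centralizers `2^{2+8} : A₅` are perfect and
2-constrained.
-/

set_option autoImplicit false

namespace Cfsg.Agent.OddHalf.NI.Ex

open Subgroup Cfsg
open scoped commutatorElement

section Class

variable {G : Type*} [Group G] [Finite G]

theorem ncard_class (z : G) :
    {x : G | ∃ g : G, g * z * g⁻¹ = x}.ncard = (centralizer ({z} : Set G)).index := by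
  have h1 : {x : G | ∃ g : G, g * z * g⁻¹ = x} = MulAction.orbit (ConjAct G) z := by
    ext x
    rw [MulAction.mem_orbit_iff]
    constructor
    · rintro ⟨g, hg⟩
      exact ⟨ConjAct.toConjAct g, by rw [ConjAct.toConjAct_smul]; exact hg⟩
    · rintro ⟨g, hg⟩
      exact ⟨ConjAct.ofConjAct g, by rw [ConjAct.smul_def] at hg; exact hg⟩
  have h2 : Nat.card (centralizer ({z} : Set G)) = Nat.card (MulAction.stabilizer (ConjAct G) z) :=
    Subgroup.nat_card_centralizer_nat_card_stabilizer z
  have h3 := (centralizer ({z} : Set G)).card_mul_index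
  have h4 := (MulAction.stabilizer (ConjAct G) z).card_mul_index
  have h5 : Nat.card (ConjAct G) = Nat.card G := rfl
  rw [h1, ← MulAction.index_stabilizer]
  rw [← h2, h5, ← h3] at h4
  exact Nat.eq_of_mul_eq_mul_left Nat.card_pos h4

omit [Finite G] in
theorem card_centralizer_aut (α : MulAut G) (z : G) :
    Nat.card (centralizer ({α z} : Set G)) = Nat.card (centralizer ({z} : Set G)) := by
  refine Nat.card_congr (α.toEquiv.subtypeEquiv fun x => ?_).symm
  change x ∈ centralizer ({z} : Set G) ↔ α x ∈ centralizer ({α z} : Set G)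
  rw [mem_centralizer_singleton_iff, mem_centralizer_singleton_iff, ← map_mul, ← map_mul]
  exact α.injective.eq_iff.symm

/-- An involutory automorphism fixes a point of an invariant set of odd order. -/
theorem exists_fixed_of_odd {D : Set G} (hD : Odd D.ncard) {α : MulAut G} (hα : α * α = 1)
    (hinv : ∀ z ∈ D, α z ∈ D) : ∃ z ∈ D, α z = z := by
  classical
  have : Fintype G := Fintype.ofFinite G
  have hαα : ∀ x : G, α (α x) = x := fun x => by
    rw [← MulAut.mul_apply, hα, MulAut.one_apply]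
  let σ : Equiv.Perm D :=
    { toFun := fun z => ⟨α z, hinv z z.2⟩
      invFun := fun z => ⟨α z, hinv z z.2⟩
      left_inv := fun z => Subtype.ext (hαα z)
      right_inv := fun z => Subtype.ext (hαα z) }
  have : Fact (Nat.Prime 2) := ⟨Nat.prime_two⟩
  have hcard : ¬ 2 ∣ Fintype.card D := by
    rw [← Nat.card_eq_fintype_card, Nat.card_coe_set_eq]
    intro h
    exact (Nat.not_even_iff_odd.mpr hD) (even_iff_two_dvd.mpr h)
  have hσ : σ ^ 2 ^ 1 = 1 := by
    ext z
    rw [pow_one, pow_two]
    exact hαα z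
  obtain ⟨z, hz⟩ := Equiv.Perm.exists_fixed_point_of_prime hcard hσ
  exact ⟨z, z.2, congrArg Subtype.val hz⟩

/-- A class of good involutions of odd order, invariant under the involutory automorphisms. -/
theorem hasGood_of_class {z : G} (zz : z * z = 1) (z1 : z ≠ 1) (hg : Good z)
    (hodd : Odd (centralizer ({z} : Set G)).index)
    (hinv : ∀ α : MulAut G, ∃ g : G, g * z * g⁻¹ = α z) : HasGood G := by
  intro α hα
  have h2 : α * α = 1 := by rw [← pow_two, ← hα, pow_orderOf_eq_one]
  obtain ⟨x, ⟨g, rfl⟩, hx⟩ := exists_fixed_of_odd (D := {x : G | ∃ g : G, g * z * g⁻¹ = x})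
    (by rw [ncard_class]; exact hodd) h2 (by
      rintro _ ⟨g, rfl⟩
      obtain ⟨k, hk⟩ := hinv α
      refine ⟨α g * k, ?_⟩
      rw [map_mul, map_mul, map_inv, ← hk]
      group)
  refine ⟨g * z * g⁻¹, ?_, hx, hg.conj g⟩
  have h3 : orderOf (g * z * g⁻¹) = orderOf z := (MulAut.conj g).orderOf_eq z
  rw [h3]
  exact orderOf_eq_prime (by rw [pow_two, zz]) z1

end Class

section GTwo

theorem card_of_top {H : Type*} [Group H] {A : Subgroup H} (h : ∀ x, x ∈ A) : Nat.card A = Nat.card H :=
  Nat.card_congr (Equiv.subtypeUnivEquiv h)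

open Cfsg.Agent.GTwoFour Cfsg.Agent.GTwoFour.Mdl
open Cfsg.Agent.StdG24.Mod6
open Cfsg.Agent.StdG24.Inv6 (lz lv)

theorem card_L' : Nat.card L = 251596800 := by
  have h : ∀ x : L, x ∈ DL.A := fun x => Subgroup.mem_top x
  rw [← card_of_top h]
  exact factsL.card_A

theorem finite_L' : Finite L := Nat.finite_of_card_ne_zero (by rw [card_L']; norm_num)

theorem cent_eq_P {z : L} (hz : z ∈ DL.Z) (h1 : z ≠ 1) : centralizer ({z} : Set L) = DL.P := by
  ext a
  rw [mem_centralizer_singleton_iff]
  constructor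
  · exact fun h => redFacts.centz z hz h1 a h
  · exact fun h => ((factsL.cent_Z a (factsL.P_le h)).2 h) z hz

theorem good_long {z : L} (hz : z ∈ DL.Z) (h1 : z ≠ 1) : Good z := by
  have : Finite L := finite_L'
  have hP := cent_eq_P hz h1
  refine good_of_perfect (Q := DL.Q1) ?_ ?_ ?_ ?_ ?_
  · exact IsPGroup.of_card (n := 10) (by rw [factsL.card_Q1]; norm_num)
  · rw [hP]; exact factsL.Q1_le
  · rw [hP]; exact factsL.norm_Q1
  · rw [hP]
    intro p hp hc
    refine factsL.cent_Q1Z p hp fun q hq => ?_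
    rw [commutatorElement_def, hc q hq, mul_inv_cancel_right, mul_inv_cancel]
    exact one_mem _
  · rw [hP]
    exact le_antisymm (commutator_le_self _) factsL.perfect_P

theorem exists_long : ∃ z ∈ DL.Z, z ≠ 1 := by
  by_contra hcon
  push Not at hcon
  have h1 : DL.Z = ⊥ := (Subgroup.eq_bot_iff_forall _).2 hcon
  have h2 := factsL.card_Z
  rw [h1, Subgroup.card_bot] at h2
  omega

theorem hasGood_L : HasGood L := by
  have : Finite L := finite_L'
  obtain ⟨z, hz, h1⟩ := exists_long
  have zz : z * z = 1 := factsL.sq_Z z hz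
  have hcard : Nat.card (centralizer ({z} : Set L)) = 61440 := by
    rw [cent_eq_P hz h1]; exact factsL.card_P
  have key : ∀ y : L, y ≠ 1 → y * y = 1 → Nat.card (centralizer ({y} : Set L)) = 61440 →
      ∃ g : L, g * y * g⁻¹ = lz := by
    intro y hy1 hy2 hy
    rcases conj_cases y hy1 hy2 with h | ⟨g, hg⟩
    · exact h
    · exfalso
      rw [card_centralizer_conj g y, hg] at hy
      exact absurd hy (ne_of_lt card_cent_v)
  refine hasGood_of_class zz h1 (good_long hz h1) ?_ fun α => ?_
  · have h3 := (centralizer ({z} : Set L)).card_mul_index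
    rw [hcard, card_L'] at h3
    have h4 : (centralizer ({z} : Set L)).index = 4095 := by omega
    rw [h4]
    decide
  · obtain ⟨g, hg⟩ := key z h1 zz hcard
    obtain ⟨k, hk⟩ := key (α z) (fun h => h1 (α.map_eq_one_iff.1 h)) (by rw [← map_mul, zz, map_one])
      (by rw [card_centralizer_aut, hcard])
    refine ⟨k⁻¹ * g, ?_⟩
    have e : k⁻¹ * g * z * (k⁻¹ * g)⁻¹ = k⁻¹ * (g * z * g⁻¹) * k := by group
    rw [e, hg, ← hk]
    group

end GTwo

theorem hasGood_g24 {X : Type*} [Group X] (h : D9.Cut.XG24 X) : HasGood X := by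
  obtain ⟨F, i1, i2, hF, ⟨e⟩⟩ := h
  obtain ⟨e'⟩ := Cfsg.Agent.StdG24.Iso6.equiv_chev F hF
  exact hasGood_L.congr (e'.trans e.symm)

end Cfsg.Agent.OddHalf.NI.Ex
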