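import Cfsg.Agent.OddHalf.NI.Ex.Descend
import Cfsg.Agent.OddHalf.RankOne
import Cfsg.Agent.OddHalf.AltCoverOut
import Cfsg.Agent.OddHalf.NI.Rows
import Cfsg.Agent.OddHalf.D9.Cut

/-!
# (EX): the cut of `NotBig` into rows (helper803)

`notBig`: the entrance `NotBig` of node NI from

* the 2-parts of the multipliers (`D9.Cut.Mult`, `MulOdd`: `L₂(q)` and Ree groups, `D5cover`);
* S1738 (double covers of `A_n`, `n ≥ 8`), the Gorenstein-Walter theorem;
* `Rows`: `NoCov X` for the groups with exceptional multipliers except `L₃(4)`; the row `L₃(4)`; the row of the types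
  over the field with 3 elements.
-/

set_option autoImplicit false

namespace Cfsg.Agent.OddHalf.NI.Ex

open Subgroup Cfsg Cfsg.Agent.OddHalf.Iface Cfsg.Agent.OddHalf.LieOddFam Cfsg.Agent.OddHalf.D9.Cut
open Cfsg.Agent.OddHalf.D3 (cj Comp)
open Cfsg.Agent.SignalizersComponents

universe u

/-- The hypotheses of `NotBig`. -/
structure Entr {G : Type u} [Group G] (t y : G) (J N : Subgroup G) : Prop where
  ht : orderOf t = 2
  hy : orderOf y = 2
  ne : t ≠ y
  comm : t * y = y * t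
  comp : CompIn (centralizer ({t} : Set G) ⊓ centralizer ({y} : Set G)) J
  mem : y ∈ J
  sl : IsSL ↥J
  compN : Comp y N
  lt : J < N
  inv : cj t N = N

/-- A row with the group `G`. -/
def GRow (P : (X : Type u) → [Group X] → Prop) : Prop :=
  ∀ (G : Type u) [Group G], Ctx G → ∀ (t y : G) (J N : Subgroup G), Entr t y J N → P (↥N ⧸ center ↥N) → False

/-- A row about the simple group `X = N / Z(N)` alone. -/
def XRow (P : (X : Type u) → [Group X] → Prop) : Prop :=
  ∀ (X : Type u) [Group X] [Finite X], IsSimpleGroup X → ¬ IsMulCommutative X → P X → NoCov X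

/-- The rows of (EX). -/
structure Rows : Prop where
  u62 : XRow.{u} (fun X _ => XU62 X)
  sp62 : XRow.{u} (fun X _ => XSp62 X)
  o82 : XRow.{u} (fun X _ => XO82 X)
  g24 : XRow.{u} (fun X _ => XG24 X)
  f42 : XRow.{u} (fun X _ => XF42 X)
  te62 : XRow.{u} (fun X _ => X2E62 X)
  m12 : XRow.{u} (fun X _ => Spor.IsoM12 X)
  j2 : XRow.{u} (fun X _ => Spor.IsoJ2 X)
  hs : XRow.{u} (fun X _ => Spor.IsoHS X)
  suz : XRow.{u} (fun X _ => Spor.IsoSuz X)
  ru : XRow.{u} (fun X _ => Spor.IsoRu X)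
  fi22 : XRow.{u} (fun X _ => Spor.IsoFi22 X)
  co1 : XRow.{u} (fun X _ => Spor.IsoCo1 X)
  b : XRow.{u} (fun X _ => Spor.IsoB X)
  m22 : XRow.{u} (fun X _ => Spor.IsoM22 X)
  sz : XRow.{u} (fun X _ => XSz X)
  l34 : GRow.{u} (fun X _ => XL34 X)
  three : GRow.{u} (fun X _ => Rk X 3)

/-- The multipliers of the groups of Lie type of rank 1 in odd characteristic, 2-parts. -/
structure MulOdd : Prop where
  l2 : ∀ (K : Type u) [Group K] [Finite K], IsQuasisimple K → IsPGroup 2 ↥(center K) → center K ≠ ⊥ →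
    XL27 (K ⧸ center K) ∨ XL2Big (K ⧸ center K) → PRankLE 2 1 K
  ree : ∀ (K : Type u) [Group K] [Finite K], IsQuasisimple K → IsPGroup 2 ↥(center K) → center K ≠ ⊥ →
    ¬ Lie.IsoRee (K ⧸ center K)

section Auto

variable {G : Type u} [Group G]

/-- conjugation by `t` on `N = N^t` -/
noncomputable def auto (t : G) (N : Subgroup G) (h : cj t N = N) : MulAut ↥N :=
  ((MulAut.conj t).subgroupMap N).trans (MulEquiv.subgroupCongr h)

theorem coe_auto {t : G} {N : Subgroup G} (h : cj t N = N) (x : ↥N) :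
    ((auto t N h x : ↥N) : G) = t * (x : G) * t⁻¹ := rfl

theorem fix_auto {t : G} {N : Subgroup G} (h : cj t N = N) :
    fix (auto t N h) = (N ⊓ centralizer ({t} : Set G)).subgroupOf N := by
  ext x
  rw [mem_fix, mem_subgroupOf, mem_inf, mem_centralizer_singleton_iff]
  constructor
  · intro h1
    refine ⟨x.2, ?_⟩
    have h2 := congrArg Subtype.val h1
    rw [coe_auto] at h2
    exact (mul_inv_eq_iff_eq_mul.mp h2).symm
  · rintro ⟨-, h1⟩
    apply Subtype.ext
    rw [coe_auto]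
    exact mul_inv_eq_iff_eq_mul.mpr h1.symm

theorem auto_mul {t : G} (ht : orderOf t = 2) {N : Subgroup G} (h : cj t N = N) :
    auto t N h * auto t N h = 1 := by
  ext x
  have h2 : t * t = 1 := by rw [← pow_two, ← ht, pow_orderOf_eq_one]
  change t * (t * (x : G) * t⁻¹) * t⁻¹ = x
  calc t * (t * (x : G) * t⁻¹) * t⁻¹ = (t * t) * x * (t * t)⁻¹ := by group
    _ = x := by rw [h2]; group

variable {t y : G} {J N : Subgroup G}

theorem Entr.quasi (E : Entr t y J N) : IsQuasisimple ↥N := E.compN.quasi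

theorem Entr.yN (E : Entr t y J N) : y ∈ N := E.lt.le E.mem

theorem Entr.center (E : Entr t y J N) : (⟨y, E.yN⟩ : ↥N) ∈ Subgroup.center ↥N := by
  rw [mem_center_iff]
  intro g
  apply Subtype.ext
  exact mem_centralizer_singleton_iff.mp (E.compN.le g.2)

theorem Entr.orderY (E : Entr t y J N) : orderOf (⟨y, E.yN⟩ : ↥N) = 2 := by
  rw [Subgroup.orderOf_mk]; exact E.hy

theorem Entr.center_ne (E : Entr t y J N) : Subgroup.center ↥N ≠ ⊥ := by
  intro h
  have h1 := E.center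
  rw [h, mem_bot] at h1
  have h2 := E.orderY
  rw [h1, orderOf_one] at h2
  omega

theorem Entr.center2 (C : Ctx G) (E : Entr t y J N) : IsPGroup 2 ↥(Subgroup.center ↥N) := by
  have := C.fin
  exact Soft.CompOf.center_isPGroup (C.bal y E.hy) (Final.compOf_of_comp E.compN)

theorem Entr.compSub (E : Entr t y J N) : CompIn (fix (auto t N E.inv)) (J.subgroupOf N) := by
  rw [fix_auto]
  refine CompIn.subgroupOf (E.comp.mono ?_ ?_) inf_le_left
  · exact le_inf E.lt.le (E.comp.le.trans inf_le_left)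
  · exact le_inf inf_le_right (inf_le_left.trans E.compN.le)

theorem Entr.sl' (E : Entr t y J N) : IsSL ↥(J.subgroupOf N) :=
  Final.isSL_congr (subgroupOfEquivOfLe E.lt.le).symm E.sl

/-- **`NoCov (N / Z(N))` excludes the configuration.** -/
theorem Entr.false_of_noCov (C : Ctx G) (E : Entr t y J N) (h : NoCov (↥N ⧸ Subgroup.center ↥N)) : False := by
  have := C.fin
  have hz := E.center2 C
  have hne : J.subgroupOf N ≠ ⊤ := by
    intro h1
    rw [subgroupOf_eq_top] at h1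
    exact absurd h1 (not_le_of_gt E.lt)
  have hmem : (⟨y, E.yN⟩ : ↥N) ∈ J.subgroupOf N := E.mem
  obtain ⟨h1, h2, h3⟩ := descend E.quasi (auto_mul E.ht E.inv) E.compSub hne hmem E.orderY E.center E.sl'
  have hker : (QuotientGroup.mk' (Subgroup.center ↥N)).ker = Subgroup.center ↥N := QuotientGroup.ker_mk' _
  refine h ↥N (QuotientGroup.mk' _) (QuotientGroup.mk'_surjective _) (le_of_eq hker) (by rw [hker]; exact hz)
    E.quasi.1.commutator_eq_top (J.subgroupOf N) ⟨y, E.yN⟩ hmem E.orderY ?_ E.sl' _ h1 h2 h3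
  exact (QuotientGroup.eq_one_iff _).mpr E.center

end Auto

section Congr

variable {X Y : Type u} [Group X] [Group Y]

theorem exc2_congr (e : X ≃* Y) (h : Exc2 X) : Exc2 Y := by
  rcases h with h | h | h | h | h | h | h | h | h | h | h | h | h | h
  · obtain ⟨F, i, j, hF, ⟨f⟩⟩ := h
    exact Or.inl ⟨F, i, j, hF, ⟨e.symm.trans f⟩⟩
  · obtain ⟨F, i, j, hF, ⟨f⟩⟩ := h
    exact Or.inr (Or.inl ⟨F, i, j, hF, ⟨e.symm.trans f⟩⟩)
  · obtain ⟨F, i, j, hF, ⟨f⟩⟩ := h
    exact Or.inr (Or.inr (Or.inl ⟨F, i, j, hF, ⟨e.symm.trans f⟩⟩))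
  · obtain ⟨F, i, j, hF, ⟨f⟩⟩ := h
    exact Or.inr (Or.inr (Or.inr (Or.inl ⟨F, i, j, hF, ⟨e.symm.trans f⟩⟩)))
  · obtain ⟨F, i, j, hF, ⟨f⟩⟩ := h
    exact Or.inr (Or.inr (Or.inr (Or.inr (Or.inl ⟨F, i, j, hF, ⟨e.symm.trans f⟩⟩))))
  · obtain ⟨F, i, j, hF, ⟨f⟩⟩ := h
    exact Or.inr (Or.inr (Or.inr (Or.inr (Or.inr (Or.inl ⟨F, i, j, hF, ⟨e.symm.trans f⟩⟩)))))
  · obtain ⟨f⟩ := h
    exact Or.inr (Or.inr (Or.inr (Or.inr (Or.inr (Or.inr (Or.inl ⟨e.symm.trans f⟩))))))
  · obtain ⟨f⟩ := h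
    exact Or.inr (Or.inr (Or.inr (Or.inr (Or.inr (Or.inr (Or.inr (Or.inl ⟨e.symm.trans f⟩)))))))
  · obtain ⟨f⟩ := h
    exact Or.inr (Or.inr (Or.inr (Or.inr (Or.inr (Or.inr (Or.inr (Or.inr (Or.inl ⟨e.symm.trans f⟩))))))))
  · obtain ⟨f⟩ := h
    exact Or.inr (Or.inr (Or.inr (Or.inr (Or.inr (Or.inr (Or.inr (Or.inr (Or.inr (Or.inl ⟨e.symm.trans f⟩)))))))))
  · obtain ⟨f⟩ := h
    exact Or.inr (Or.inr (Or.inr (Or.inr (Or.inr (Or.inr (Or.inr (Or.inr (Or.inr (Or.inr
      (Or.inl ⟨e.symm.trans f⟩))))))))))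
  · obtain ⟨f⟩ := h
    exact Or.inr (Or.inr (Or.inr (Or.inr (Or.inr (Or.inr (Or.inr (Or.inr (Or.inr (Or.inr
      (Or.inr (Or.inl ⟨e.symm.trans f⟩)))))))))))
  · obtain ⟨f⟩ := h
    exact Or.inr (Or.inr (Or.inr (Or.inr (Or.inr (Or.inr (Or.inr (Or.inr (Or.inr (Or.inr
      (Or.inr (Or.inr (Or.inl ⟨e.symm.trans f⟩))))))))))))
  · obtain ⟨f⟩ := h
    exact Or.inr (Or.inr (Or.inr (Or.inr (Or.inr (Or.inr (Or.inr (Or.inr (Or.inr (Or.inr
      (Or.inr (Or.inr (Or.inr ⟨e.symm.trans f⟩))))))))))))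

theorem exc4_congr (e : X ≃* Y) (h : Exc4 X) : Exc4 Y := by
  rcases h with h | h
  · obtain ⟨F, i, j, hF, ⟨f⟩⟩ := h
    exact Or.inl ⟨F, i, j, hF, ⟨e.symm.trans f⟩⟩
  · obtain ⟨f⟩ := h
    exact Or.inr ⟨e.symm.trans f⟩

theorem xSz_congr (e : X ≃* Y) (h : XSz X) : XSz Y := by
  obtain ⟨F, i, j, m, hm, hF, ⟨f⟩⟩ := h
  exact ⟨F, i, j, m, hm, hF, ⟨e.symm.trans f⟩⟩

theorem lieOdd_congr (e : X ≃* Y) (h : LieOdd X) : LieOdd Y := by
  obtain ⟨p, h1, h2, h3⟩ := h
  exact ⟨p, h1, h2, Known.isLieTypeChar_congr e h3⟩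

theorem lieTwo_congr (e : X ≃* Y) (h : LieTwo X) : LieTwo Y := by
  obtain ⟨h1, h2, h3⟩ := h
  refine ⟨?_, fun h => h2 (Known.isAlternating_congr e.symm h), fun h => h3 (lieOdd_congr e.symm h)⟩
  rcases h1 with h1 | h1
  · exact Or.inl (Known.isLieTypeChar_congr e h1)
  · exact Or.inr (Known.isoTits_congr e h1)

end Congr

/-- A quasisimple group with nontrivial 2-group centre, quotient of even Lie type or sporadic: the quotient is in the
list of exceptional multipliers. -/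
theorem exc (M : D9.Cut.Mult.{u}) {N : Type u} [Group N] [Finite N] (hq : IsQuasisimple N)
    (hz : IsPGroup 2 ↥(center N)) (hne : center N ≠ ⊥)
    (hX : LieTwo (N ⧸ center N) ∨ IsSporadicGroup (N ⧸ center N)) :
    Exc2 (N ⧸ center N) ∨ Exc4 (N ⧸ center N) ∨ XSz (N ⧸ center N) := by
  have : Fact (Nat.Prime 2) := ⟨Nat.prime_two⟩
  -- a subgroup of index 2 of the centre
  obtain ⟨Z0, hZ0, hcard⟩ : ∃ Z0 : Subgroup N, Z0 ≤ center N ∧ Nat.card ↥(center N) = 2 * Nat.card ↥Z0 := by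
    obtain ⟨n, hn⟩ := IsPGroup.iff_card.mp hz
    have hn0 : n ≠ 0 := by
      rintro rfl
      rw [pow_zero, Subgroup.card_eq_one] at hn
      exact hne hn
    obtain ⟨Z1, hZ1⟩ := Sylow.exists_subgroup_card_pow_prime (G := ↥(center N)) 2 (n := n - 1)
      (by rw [hn]; exact pow_dvd_pow 2 (Nat.sub_le n 1))
    refine ⟨Z1.map (center N).subtype, map_subtype_le Z1, ?_⟩
    rw [hn, card_map_of_injective (center N).subtype_injective, hZ1, ← pow_succ']
    congr 1
    omega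
  have hnorm : Z0.Normal := ⟨fun a ha g => by
    rw [mem_center_iff.mp (hZ0 ha) g, mul_inv_cancel_right]; exact ha⟩
  let π : N →* N ⧸ Z0 := QuotientGroup.mk' Z0
  have hπ : Function.Surjective π := QuotientGroup.mk'_surjective Z0
  have hs : IsSimpleGroup (N ⧸ center N) := hq.2
  have hna := Soft.quo_na hq
  -- the centre of the quotient
  have hcen : center (N ⧸ Z0) = (center N).map π := by
    apply le_antisymm
    · intro x hx
      obtain ⟨n, rfl⟩ := hπ x
      refine ⟨n, ?_, rfl⟩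
      have h1 : ((n : N) : N ⧸ center N) ∈ center (N ⧸ center N) := by
        rw [mem_center_iff]
        intro g
        obtain ⟨g, rfl⟩ := QuotientGroup.mk_surjective g
        have h2 := mem_center_iff.mp hx (π g)
        rw [← map_mul, ← map_mul] at h2
        have h3 := QuotientGroup.eq.mp h2
        rw [← QuotientGroup.mk_mul, ← QuotientGroup.mk_mul, QuotientGroup.eq]
        exact hZ0 h3
      rw [Soft.center_eq_bot hna, mem_bot] at h1
      exact (QuotientGroup.eq_one_iff n).mp h1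
    · rintro _ ⟨n, hn, rfl⟩
      rw [mem_center_iff]
      intro g
      obtain ⟨g, rfl⟩ := hπ g
      rw [← map_mul, ← map_mul, mem_center_iff.mp hn g]
  have e : (N ⧸ Z0) ⧸ center (N ⧸ Z0) ≃* N ⧸ center N :=
    (QuotientGroup.quotientMulEquivOfEq hcen).trans (QuotientGroup.quotientQuotientEquivQuotient Z0 (center N) hZ0)
  have hcc : Nat.card ↥(center (N ⧸ Z0)) = 2 := by
    have h1 := Subgroup.card_mul_index (center (N ⧸ Z0))
    have h2 := Subgroup.card_mul_index (center N)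
    have h3 : (center (N ⧸ Z0)).index = (center N).index := Nat.card_congr e.toEquiv
    have h4 := Subgroup.card_eq_card_quotient_mul_card_subgroup Z0
    rw [h4, hcard] at h2
    rw [h3] at h1
    have h5 : 0 < (center N).index := Nat.pos_of_ne_zero Subgroup.index_ne_zero_of_finite
    have h6 : 0 < Nat.card ↥Z0 := Nat.card_pos
    have h7 : Nat.card ↥(center (N ⧸ Z0)) * (center N).index * Nat.card ↥Z0 =
        2 * (center N).index * Nat.card ↥Z0 := by
      rw [h1, ← h2]; ring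
    have h8 := Nat.eq_of_mul_eq_mul_right h6 h7
    exact Nat.eq_of_mul_eq_mul_right h5 h8
  have hQ : QsCyc (N ⧸ Z0) := by
    have hp : Group.IsPerfect N := hq.1
    refine ⟨inferInstance, ⟨Group.IsPerfect.ofSurjective hπ, Known.isSimple_congr e.symm hs⟩, ?_, ?_⟩
    · exact IsPGroup.of_card (n := 1) (by rw [hcc, pow_one])
    · exact isCyclic_of_prime_card hcc
  have hnb : center (N ⧸ Z0) ≠ ⊥ := by
    intro h
    rw [h, Subgroup.card_bot] at hcc
    omega
  by_cases h2 : Exc2 ((N ⧸ Z0) ⧸ center (N ⧸ Z0))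
  · exact Or.inl (exc2_congr e h2)
  by_cases h4 : Exc4 ((N ⧸ Z0) ⧸ center (N ⧸ Z0))
  · exact Or.inr (Or.inl (exc4_congr e h4))
  by_cases h5 : XSz ((N ⧸ Z0) ⧸ center (N ⧸ Z0))
  · exact Or.inr (Or.inr (xSz_congr e h5))
  exfalso
  rcases hX with hX | hX
  · exact hnb (M.lie _ hQ (lieTwo_congr e.symm hX) h2 h4 h5)
  · exact hnb (M.spor _ hQ (Known.isSporadic_congr e.symm hX) h2 h4)

/-- no double cover of `A_n`, `n ≥ 8`, is a component of `C(t)` with `t` in it (S1738) -/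
theorem altCover_comp (h : Stmts.P1738.{u}) {G : Type u} [Group G] {K : Subgroup G} (C : Ctx G) {t : G}
    (ht' : orderOf t = 2) (hc : CompOf t K) (htK : t ∈ K) (n : ℕ) (hn : 8 ≤ n)
    (hK : IsNonsplitDoubleCover ↥K ↥(alternatingGroup (Fin n))) : False := by
  have := C.fin
  have := C.simple
  have : Fact (Nat.Prime 2) := ⟨Nat.prime_two⟩
  have heven : Even (Nat.card ↥K) := by
    rw [even_iff_two_dvd, ← hK.1]
    exact card_subgroup_dvd_card _
  have hO := RankOne.oddCore_of_compOf (C.bal _ ht') hc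
  have e1 : ↥(K.subgroupOf (centralizer ({t} : Set G))) ≃* ↥K := subgroupOfEquivOfLe hc.1
  have hO' : oddCore ↥(K.subgroupOf (centralizer ({t} : Set G))) = ⊥ := by
    have h5 := Lib.Cores.map_equiv_pPrimeCore e1.symm 2
    rw [show pPrimeCore 2 ↥K = ⊥ from hO, Subgroup.map_bot] at h5
    exact h5.symm
  have e2 : (↥(K.subgroupOf (centralizer ({t} : Set G))) ⧸
      oddCore ↥(K.subgroupOf (centralizer ({t} : Set G)))) ≃* ↥K :=
    ((QuotientGroup.quotientMulEquivOfEq hO').trans QuotientGroup.quotientBot).trans e1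
  have hF : IsQuasisimple ↥(generalizedFittingSubgroup G) :=
    SignalizersComponents.Components.isQuasisimple_of_mulEquiv (Soft.fstarEquiv C.na).symm (Soft.quasisimple C.na)
  have hmem : t ∈ (K.subgroupOf (centralizer ({t} : Set G))).map (centralizer ({t} : Set G)).subtype := by
    rw [subgroupOf_map_subtype]
    exact ⟨htK, mem_centralizer_singleton_iff.mpr rfl⟩
  rcases h (Soft.oddCore_eq_bot (Soft.even_of_rank C.rank3)) hF _ ht' _ (AltCoverOut.isPComponent hc heven) hmem n hn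
    (Fischer.Centralizer.isNonsplitDoubleCover_congr e2.symm hK) with h1 | ⟨-, ⟨e⟩⟩ | ⟨-, ⟨e⟩⟩
  · have h2 := (Fischer.Centralizer.isNonsplitDoubleCover_congr (Soft.fstarEquiv C.na) h1).1
    rw [Soft.center_eq_bot C.na, Subgroup.card_bot] at h2
    omega
  · exact C.nc (Or.inr (Or.inr (Or.inr (Or.inr (Or.inr (Or.inl ⟨(Soft.fstarEquiv C.na).symm.trans e⟩))))))
  · exact C.nc (Or.inr (Or.inr (Or.inr (Or.inr (Or.inr (Or.inr (Or.inl ⟨(Soft.fstarEquiv C.na).symm.trans e⟩)))))))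

/-- No component of 2-rank 1 of `C(y)` contains `y` (`Ctx.classical`). -/
theorem rankOne_false (hGW : RankOne.GW.{u}) {G : Type u} [Group G] (C : Ctx G) {y : G} {N : Subgroup G}
    (hy : orderOf y = 2) (hN : CompOf y N) (hyN : y ∈ N) (hrk : PRankLE 2 1 ↥N) : False := by
  have := C.fin
  have hO := RankOne.oddCore_of_compOf (C.bal y hy) hN
  have hq : IsQuasisimple ↥N := Soft.CompOf.quasisimple hN
  obtain ⟨z, -, -, h⟩ := RankOne.rank_one hGW hq hO hrk
  have e : ↥N ⧸ oddCore ↥N ≃* ↥N := (QuotientGroup.quotientMulEquivOfEq hO).trans QuotientGroup.quotientBot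
  refine C.classical y N hy ⟨hN.1, hyN, hN.2.1⟩ ?_
  rcases h with ⟨F, i, j, h1, -, ⟨f⟩⟩ | h
  · exact Or.inl ⟨F, i, j, h1, ⟨e.trans f⟩⟩
  · exact Or.inr (Fischer.Centralizer.isNonsplitDoubleCover_congr e.symm h)

/-- **The cut of `NotBig`.** -/
theorem notBig (hGW : RankOne.GW.{u}) (P : Stmts.P1738.{u}) (hD5 : D5cover.{u}) (M : D9.Cut.Mult.{u})
    (MO : MulOdd.{u}) (R : Rows.{u}) : NotBig.{u} := by
  intro G _ C t y J N ht hy hne hcomm hJ hyJ hSL hN hlt hinv hbig
  have := C.fin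
  have := C.simple
  have E : Entr t y J N := ⟨ht, hy, hne, hcomm, hJ, hyJ, hSL, hN, hlt, hinv⟩
  have hc : CompOf y N := Final.compOf_of_comp hN
  have hq := E.quasi
  have hz := E.center2 C
  have hzne := E.center_ne
  have hrk : ¬ PRankLE 2 1 ↥N := fun h => rankOne_false hGW C hy hc E.yN h
  have hna := Soft.quo_na hq
  have hNtop : N ≠ ⊤ := Soft.CompOf.ne_top C.na hy hc
  have hs : IsSimpleGroup (↥N ⧸ center ↥N) := hq.2
  have hK : IsKnownSimple' (↥N ⧸ center ↥N) := Known.known_quotient C.kproper N hNtop (center ↥N) hs hna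
  by_cases halt : IsAlternating (↥N ⧸ center ↥N)
  · obtain ⟨n, hn, f⟩ := halt
    obtain ⟨h8, hcov⟩ := hD5 ↥N inferInstance hq hz hzne hrk n hn f
    exact altCover_comp P C hy hc E.yN n h8 hcov
  by_cases hodd : LieOdd (↥N ⧸ center ↥N)
  · rcases lieOdd_cases hodd halt with h | h | h | ⟨q, hOq, h⟩
    · exact hrk (MO.l2 ↥N hq hz hzne (Or.inl h))
    · exact hrk (MO.l2 ↥N hq hz hzne (Or.inr h))
    · exact MO.ree ↥N hq hz hzne h
    · by_cases h3 : q = 3
      · subst h3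
        exact R.three G C t y J N E h
      · exact hbig (Rows.lieBig_of_rk hOq (hOq.ne_four h3) h)
  have hX : LieTwo (↥N ⧸ center ↥N) ∨ IsSporadicGroup (↥N ⧸ center ↥N) := by
    rcases Known.classify hna hK with h | h | h | h
    · exact absurd h halt
    · exact absurd h hodd
    · exact Or.inl ⟨h, halt, hodd⟩
    · exact Or.inr h
  have ncf : NoCov (↥N ⧸ center ↥N) → False := E.false_of_noCov C
  rcases exc M hq hz hzne hX with h | h | h
  · rcases h with h | h | h | h | h | h | h | h | h | h | h | h | h | h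
    · exact ncf (R.u62 _ hs hna h)
    · exact ncf (R.sp62 _ hs hna h)
    · exact ncf (R.o82 _ hs hna h)
    · exact ncf (R.g24 _ hs hna h)
    · exact ncf (R.f42 _ hs hna h)
    · exact ncf (R.te62 _ hs hna h)
    · exact ncf (R.m12 _ hs hna h)
    · exact ncf (R.j2 _ hs hna h)
    · exact ncf (R.hs _ hs hna h)
    · exact ncf (R.suz _ hs hna h)
    · exact ncf (R.ru _ hs hna h)
    · exact ncf (R.fi22 _ hs hna h)
    · exact ncf (R.co1 _ hs hna h)
    · exact ncf (R.b _ hs hna h)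
  · rcases h with h | h
    · exact R.l34 G C t y J N E h
    · exact ncf (R.m22 _ hs hna h)
  · exact ncf (R.sz _ hs hna h)

end Cfsg.Agent.OddHalf.NI.Ex
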