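import Cfsg.Agent.OddHalf.NI.Ex.GoodTools
import Cfsg.Agent.OddHalf.NI.Ex.Lemma
import Cfsg.Agent.OddHalf.NI.Ex.Cut
import Cfsg.Agent.KFacts.HS.Sheet

/-!
# (EX), row `HS` (helper803)

`z` of class 2A, `C(z) = R.S₅`; `P = C(u) = R.A₅` is perfect and `C(z) ∖ P` contains an element `x` of order 8 with
`x⁴ = z`.
-/

set_option autoImplicit false

namespace Cfsg.Agent.OddHalf.NI.Ex.RowHS

open Subgroup
open Cfsg.Agent.HN Cfsg.Agent.HN.Pres Cfsg.Agent.HN.HS100 Cfsg.Agent.HN.P1408 Cfsg.Agent.HN.H0Basic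
open Cfsg.Agent.HN.XMat Cfsg.Agent.HN.WMask Cfsg.Agent.KFacts.HS Cfsg.Agent.KFacts.HS.Cent

universe u

/-- an element of order 8 of `C(z) ∖ P` -/
def x8 : H0 := WMask.el 36 [1] false

theorem one_mem_S5W : ([1] : List ℕ) ∈ S5W := by decide +kernel

theorem x8_mem : x8 ∈ Pt := el_mem_Pt (by norm_num) (by decide +kernel) one_mem_S5W _

theorem x8_notMem : x8 ∉ P0t := by
  unfold x8
  rw [el_mem_P0t (by norm_num) (by decide +kernel) one_mem_S5W]
  decide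

theorem x8_pow : x8 ^ 4 = b ∨ x8 ^ 4 = b * τ := by
  have h0 : x8 = hw (elw 36 [1] false) := (hw_elw _ _ _).symm
  have h1 : x8 ^ 4 = hw (elw 36 [1] false ++ elw 36 [1] false ++ (elw 36 [1] false ++ elw 36 [1] false)) := by
    rw [hw_append, hw_append, ← h0, pow_succ, pow_succ, pow_succ, pow_one]
    group
  rw [h1]
  have h2 : eqw (elw 36 [1] false ++ elw 36 [1] false ++ (elw 36 [1] false ++ elw 36 [1] false)) bw = true ∨
      eqw (elw 36 [1] false ++ elw 36 [1] false ++ (elw 36 [1] false ++ elw 36 [1] false)) (bw ++ [0, 0]) = true := by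
    decide +kernel
  rcases h2 with h2 | h2
  · left
    exact hw_eq h2
  · right
    rw [hw_eq h2, hw_append, hw_τ]
    rfl

variable {L : Type*} [Group L] (D : Cfsg.Agent.KFacts.HS.Mod L)

theorem x8_mem_K : x8 ∈ K := Cfsg.Agent.KFacts.HS.Mod.Pt_le_K x8_mem

theorem good : Good D.z := by
  have := D.finite
  refine ⟨⟨D.R, D.isPGroup_R, D.RP.trans D.P_le, fun h hh q hq => ?_, fun h hh hc => ?_⟩, ?_⟩
  · exact D.Rn' (mem_centralizer_singleton_iff.1 hh) hq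
  · have h1 := D.cR' h (mem_centralizer_singleton_iff.1 hh) hc
    rcases h1 with h1 | h1 | h1 | h1
    · rw [h1]; exact one_mem _
    · rw [h1]; exact D.zR
    · rw [h1]; exact D.uR
    · rw [h1]; exact inv_mem D.uR
  · have hx : D.π ⟨x8, x8_mem_K⟩ ∈ centralizer ({D.z} : Set L) := by
      rw [mem_centralizer_singleton_iff, D.comm_z]
      exact x8_mem
    have hp : D.π ⟨x8, x8_mem_K⟩ ^ 4 = D.z := by
      rw [← map_pow]
      have h1 : (⟨x8, x8_mem_K⟩ : K) ^ 4 = ⟨x8 ^ 4, K.pow_mem x8_mem_K 4⟩ := rfl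
      rw [h1]
      exact (D.π_eq _ b_mem_K).2 x8_pow
    refine gens_of_two D.perf D.P_le hx ?_ ?_
    · rw [← hp]
      exact pow_mem (mem_zpowers _) 4
    · intro g hg
      rcases D.inv g (mem_centralizer_singleton_iff.1 hg) with h1 | h1
      · left
        rw [D.memP]
        exact mul_inv_eq_iff_eq_mul.1 h1
      · right
        have h2 : D.π ⟨x8, x8_mem_K⟩ ∉ D.P := by
          rw [Cfsg.Agent.KFacts.HS.Mod.P, D.π_mem_im Cfsg.Agent.KFacts.HS.Mod.τ_mem_P0t x8_mem_K]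
          exact x8_notMem
        rcases D.inv _ (mem_centralizer_singleton_iff.1 hx) with h3 | h3
        · exfalso
          apply h2
          rw [D.memP]
          exact mul_inv_eq_iff_eq_mul.1 h3
        · rw [D.memP]
          have h4 : (D.π ⟨x8, x8_mem_K⟩)⁻¹ * D.u * D.π ⟨x8, x8_mem_K⟩ = D.u⁻¹ := by
            have h5 : (D.π ⟨x8, x8_mem_K⟩)⁻¹ * D.u⁻¹ * D.π ⟨x8, x8_mem_K⟩ = D.u := by
              rw [← h3]; group
            have h6 : ((D.π ⟨x8, x8_mem_K⟩)⁻¹ * D.u⁻¹ * D.π ⟨x8, x8_mem_K⟩)⁻¹ = D.u⁻¹ := by rw [h5]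
            rw [← h6]; group
          rw [← mul_inv_eq_iff_eq_mul]
          calc (D.π ⟨x8, x8_mem_K⟩)⁻¹ * g * D.u * ((D.π ⟨x8, x8_mem_K⟩)⁻¹ * g)⁻¹
              = (D.π ⟨x8, x8_mem_K⟩)⁻¹ * (g * D.u * g⁻¹) * D.π ⟨x8, x8_mem_K⟩ := by group
            _ = ((D.π ⟨x8, x8_mem_K⟩)⁻¹ * D.u * D.π ⟨x8, x8_mem_K⟩)⁻¹ := by rw [h1]; group
            _ = D.u := by rw [h4, inv_inv]

/-- **row `HS`** -/
theorem hs : XRow.{u} (fun X _ => Spor.IsoHS X) := by
  intro X _ _ _ _ hX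
  obtain ⟨D⟩ := exists_mod hX
  obtain ⟨S, zS, zc, hu⟩ := D.syl
  exact Lemma.noCov_of_sylow (MulEquiv.refl X) S zS D.z1 D.zz zc (fun u h1 h2 _ => hu u h1 h2) (good D)

end Cfsg.Agent.OddHalf.NI.Ex.RowHS
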