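import Cfsg.Agent.OddHalf.NI.Ex.OfSheet
import Cfsg.Agent.KFacts.J2.SheetX

/-!
# (EX): the row of the Hall-Janko group (helper604)
-/

set_option autoImplicit false

namespace Cfsg.Agent.OddHalf.NI.Ex

open Cfsg Cfsg.Agent.OddHalf.D8.JTwo.Sheet

theorem hasGood_j2 {X : Type*} [Group X] [Finite X] (h : Spor.IsoJ2 X) : HasGood X := by
  obtain ⟨t, u, Q, v, ρ, D⟩ := Cfsg.Agent.KFacts.J2.Facts.exists_dat_of h
  exact hasGood_of_sheet (Cfsg.Agent.KFacts.J2.SheetX.sheetX D)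

end Cfsg.Agent.OddHalf.NI.Ex
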