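import Cfsg.Agent.OddHalf.NI.Ex.Cut
import Cfsg.Agent.OddHalf.NI.Ex.Lemma
import Cfsg.Agent.OddHalf.NI.Ex.HasJ2

/-!
# (EX): the row `J₂` (helper604)
-/

set_option autoImplicit false

namespace Cfsg.Agent.OddHalf.NI.Ex.RowJ2

open Cfsg Cfsg.Agent.OddHalf.NI.Ex

universe u

/-- **The row `J₂`.** -/
theorem j2 : XRow.{u} (fun X _ => Spor.IsoJ2 X) :=
  fun _ _ _ _ _ h => Lemma.noCov_of_good (hasGood_j2 h)

end Cfsg.Agent.OddHalf.NI.Ex.RowJ2
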