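import Cfsg.Agent.OddHalf.NI.Ex.Cyc
import Cfsg.Agent.OddHalf.D9.TwoM12.KFacts
import Cfsg.Agent.OddHalf.D9.TwoM12.Bad

/-!
# (EX): the row `M₁₂` (helper803)

The components of centralizers of involutory automorphisms of `M₁₂` are conjugate to the subgroup `A5` of the
centralizer of a 2A-involution; its involutions are in the class 2B, so they lift to involutions of `2.M₁₂`.
-/

set_option autoImplicit false

namespace Cfsg.Agent.OddHalf.NI.Ex.RowM12

open Subgroup Cfsg Cfsg.Agent.OddHalf.D9.Cut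
open Cfsg.Agent.CoThreeStd Cfsg.Agent.CoThreeStd.MTwelve Cfsg.Agent.CoThreeStd.InvTwo Cfsg.Agent.CoThreeStd.OutAut
open Cfsg.Agent.KFacts.MulTwo Cfsg.Agent.KFacts.MulDef
open Cfsg.Agent.OddHalf.D9.TwoM12
open scoped commutatorElement

universe u

theorem class5 : ∀ σ : Equiv.Perm (Fin 5), σ ∈ alternatingGroup (Fin 5) → σ ≠ 1 → σ * σ = 1 →
    ∃ τ : Equiv.Perm (Fin 5), τ⁻¹ * (Equiv.swap 0 1 * Equiv.swap 2 3) * τ = σ := by
  intro σ hσ
  rw [Equiv.Perm.mem_alternatingGroup] at hσ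
  revert σ
  decide +kernel

/-- the involutions of `A5` are in the class 2B -/
theorem isB_of_mem {a : H} (ha : a ∈ A5) (h1 : a ≠ 1) (h2 : a * a = 1) : InvTwo.IsB a := by
  obtain ⟨σ, hσ, rfl⟩ := ha
  obtain ⟨τ, hτ⟩ := class5 σ hσ (by rintro rfl; exact h1 (map_one w))
    (w_injective (by rw [map_mul, map_one]; exact h2))
  exact ⟨w τ, by rw [← hτ, map_mul, map_mul, map_inv, map_mul, w_p, w_r]⟩

theorem comm_mem {a b : H} (ha : a * y = y * a) (hb : b * y = y * b) : ⁅a, b⁆ ∈ A5 := by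
  have key : ∀ σ τ : Equiv.Perm (Fin 5), ⁅w σ, w τ⁆ ∈ A5 := by
    intro σ τ
    rw [← map_commutatorElement]
    refine ⟨⁅σ, τ⁆, ?_, rfl⟩
    rw [SetLike.mem_coe, Equiv.Perm.mem_alternatingGroup, commutatorElement_def, map_mul, map_mul, map_mul,
      map_inv, map_inv, mul_right_comm (Equiv.Perm.sign σ), mul_inv_cancel, one_mul, mul_inv_cancel]
  have hy : ∀ σ : Equiv.Perm (Fin 5), ∀ x : H, ⁅y * w σ, x⁆ = y * ⁅w σ, x⁆ * (x * y⁻¹ * x⁻¹) := by
    intro σ x
    rw [commutatorElement_def, commutatorElement_def]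
    group
  obtain ⟨σ, h1⟩ := cent_y a ha
  obtain ⟨τ, h2⟩ := cent_y b hb
  have e1 : ∀ x : H, x * y = y * x → ⁅y * w σ, x⁆ = ⁅w σ, x⁆ := by
    intro x hx
    have hx' : x * y⁻¹ = y⁻¹ * x := by
      rw [mul_inv_eq_iff_eq_mul, mul_assoc, hx, inv_mul_cancel_left]
    have hc := y_comm σ
    rw [commutatorElement_def, commutatorElement_def, mul_inv_rev]
    calc y * w σ * x * ((w σ)⁻¹ * y⁻¹) * x⁻¹ = y * (w σ * x * (w σ)⁻¹) * y⁻¹ * x⁻¹ := by group
      _ = (w σ * x * (w σ)⁻¹) * y * y⁻¹ * x⁻¹ := by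
        congr 2
        have : y * (w σ)⁻¹ = (w σ)⁻¹ * y := by
          rw [eq_inv_mul_iff_mul_eq, ← mul_assoc, ← hc, mul_assoc, mul_inv_cancel, mul_one]
        calc y * (w σ * x * (w σ)⁻¹) = (y * w σ) * x * (w σ)⁻¹ := by group
          _ = w σ * (y * x) * (w σ)⁻¹ := by rw [hc]; group
          _ = w σ * x * (y * (w σ)⁻¹) := by rw [← hx]; group
          _ = w σ * x * (w σ)⁻¹ * y := by rw [this]; group
      _ = w σ * x * (w σ)⁻¹ * x⁻¹ := by group
  have e2 : ∀ x : H, x * y = y * x → ⁅x, y * w τ⁆ = ⁅x, w τ⁆ := by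
    intro x hx
    have hc := y_comm τ
    have hx' : y⁻¹ * x = x * y⁻¹ := by
      rw [inv_mul_eq_iff_eq_mul, ← mul_assoc, ← hx, mul_inv_cancel_right]
    rw [commutatorElement_def, commutatorElement_def, mul_inv_rev]
    calc x * (y * w τ) * x⁻¹ * ((w τ)⁻¹ * y⁻¹) = (x * y) * w τ * x⁻¹ * (w τ)⁻¹ * y⁻¹ := by group
      _ = y * (x * w τ * x⁻¹ * (w τ)⁻¹) * y⁻¹ := by rw [hx]; group
      _ = (x * w τ * x⁻¹ * (w τ)⁻¹) * y * y⁻¹ := by
        congr 1
        have h3 : ∀ z : H, z * y = y * z → y * z⁻¹ = z⁻¹ * y := by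
          intro z hz
          rw [eq_inv_mul_iff_mul_eq, ← mul_assoc, hz, mul_inv_cancel_right]
        have h4 := h3 x hx
        have h5 := h3 (w τ) hc.symm
        calc y * (x * w τ * x⁻¹ * (w τ)⁻¹) = (y * x) * w τ * x⁻¹ * (w τ)⁻¹ := by group
          _ = x * (y * w τ) * x⁻¹ * (w τ)⁻¹ := by rw [← hx]; group
          _ = x * w τ * (y * x⁻¹) * (w τ)⁻¹ := by rw [hc]; group
          _ = x * w τ * x⁻¹ * (y * (w τ)⁻¹) := by rw [h4]; group
          _ = x * w τ * x⁻¹ * (w τ)⁻¹ * y := by rw [h5]; group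
      _ = x * w τ * x⁻¹ * (w τ)⁻¹ := by group
  rcases h1 with rfl | rfl <;> rcases h2 with rfl | rfl
  · exact key σ τ
  · rw [e2 _ (y_comm σ).symm]; exact key σ τ
  · rw [e1 _ (y_comm τ).symm]; exact key σ τ
  · rw [e1 _ hb, e2 _ (y_comm σ).symm]; exact key σ τ

/-- perfect subgroups of `C(y)` lie in `A5` -/
theorem le_A5 {A : Subgroup H} (hA : ⁅A, A⁆ = A) (h : ∀ a ∈ A, a * y = y * a) : A ≤ A5 := by
  rw [← hA, Subgroup.commutator_le]
  intro a ha b hb
  exact comm_mem (h a ha) (h b hb)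

theorem row : NoDblL2.{u} H := by
  intro L _ _ π c hD J j hj hjc α hα hJ hL2
  set A : Subgroup H := J.map π with hA
  have hperf : ⁅A, A⁆ = A := hJ.perfect
  have hne : A ≠ ⊥ := by
    intro h
    have h1 := hJ.quasi.2.toNontrivial
    have h2 : Subsingleton ↥A := by rw [h]; infer_instance
    have h3 : Subsingleton (↥A ⧸ center ↥A) := by infer_instance
    exact not_subsingleton _ h3
  have haA : π j ∈ A := ⟨j, hj, rfl⟩
  have ha2 : π j * π j = 1 := by rw [← map_mul, hjc]; exact (hD.ker c).2 (Or.inr rfl)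
  have ha1 : π j ≠ 1 := by
    intro h
    rcases (hD.ker j).1 h with h1 | h1
    · rw [h1, one_mul] at hjc
      exact hD.ne hjc.symm
    · rw [h1, hD.sq] at hjc
      exact hD.ne hjc.symm
  -- it is enough to conjugate `A` into `C(y)`
  have key : ∀ g : H, (∀ a ∈ A, (g * a * g⁻¹) * y = y * (g * a * g⁻¹)) → False := by
    intro g hg
    have h1 : A.map (MulAut.conj g).toMonoidHom ≤ A5 := by
      apply le_A5
      · rw [← Subgroup.map_commutator, hperf]
      · rintro _ ⟨a, ha, rfl⟩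
        exact hg a ha
    have h2 : g * π j * g⁻¹ ∈ A5 := h1 ⟨π j, haA, rfl⟩
    have h3 : InvTwo.IsB (g * π j * g⁻¹) := isB_of_mem h2 (fun h => ha1 (by
      have := congrArg (fun x => g⁻¹ * x * g) h
      simpa [mul_assoc] using this)) (by
      calc g * π j * g⁻¹ * (g * π j * g⁻¹) = g * (π j * π j) * g⁻¹ := by group
        _ = 1 := by rw [ha2]; group)
    have h4 : InvTwo.IsB (π j) := by
      have := h3.conj g
      simpa [mul_assoc] using this
    have h5 := sqB hD h4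
    rw [hjc] at h5
    exact hD.ne h5
  have hα2 : α * α = 1 := by rw [← pow_two, ← hα, pow_orderOf_eq_one]
  have hα1 : α ≠ 1 := by
    rintro rfl
    rw [orderOf_one] at hα
    omega
  by_cases hin : α ∈ (MulAut.conj : H →* MulAut H).range
  · obtain ⟨t, rfl⟩ := hin
    have ht1 : t ≠ 1 := by rintro rfl; exact hα1 (map_one _)
    have ht2 : t * t = 1 := by
      apply center_H
      intro x
      rw [← map_mul] at hα2
      have h1 : t * t * x * (t * t)⁻¹ = x := congrArg (fun φ : MulAut H => φ x) hα2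
      exact mul_inv_eq_iff_eq_mul.mp h1
    have hfix : ∀ a ∈ A, t * a = a * t := by
      intro a ha
      have h1 : t * a * t⁻¹ = a := hJ.le ha
      exact mul_inv_eq_iff_eq_mul.mp h1
    rcases inv_class t ht1 ht2 with ⟨k, hk⟩ | ⟨k, hk⟩
    · refine key k fun a ha => ?_
      have h1 := hfix a ha
      have h2 : y = k * t * k⁻¹ := by rw [← hk]; group
      rw [h2]
      calc k * a * k⁻¹ * (k * t * k⁻¹) = k * (a * t) * k⁻¹ := by group
        _ = k * (t * a) * k⁻¹ := by rw [h1]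
        _ = k * t * k⁻¹ * (k * a * k⁻¹) := by group
    · have h0 : A.map (MulAut.conj k).toMonoidHom = ⊥ := by
        apply perf_eq_bot solvable_cent
        · rw [← Subgroup.map_commutator, hperf]
        · rintro _ ⟨a, ha, rfl⟩
          rw [mem_centralizer_singleton_iff]
          have h1 := hfix a ha
          have h2 : p * r = k * t * k⁻¹ := by rw [← hk]; group
          rw [h2]
          change k * a * k⁻¹ * (k * t * k⁻¹) = k * t * k⁻¹ * (k * a * k⁻¹)
          calc k * a * k⁻¹ * (k * t * k⁻¹) = k * (a * t) * k⁻¹ := by group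
            _ = k * (t * a) * k⁻¹ := by rw [h1]
            _ = k * t * k⁻¹ * (k * a * k⁻¹) := by group
      apply hne
      exact (Subgroup.map_eq_bot_iff_of_injective A (MulAut.conj k).injective).mp h0
  · obtain ⟨k, hk⟩ := conj_al α hin hα2
    refine key k fun a ha => ?_
    have h1 : alpha (k * a * k⁻¹) = k * a * k⁻¹ := by
      rw [← hk]
      have h2 : α a = a := hJ.le ha
      have h3 : k⁻¹ * (k * a * k⁻¹) * k = a := by group
      rw [h3, h2]
    rcases fix_alpha h1 with h2 | h2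
    · exact (A5_y h2).symm
    · have h3 := A5_y h2
      have h4 : y * (k * a * k⁻¹) * y = (k * a * k⁻¹) * y * y := by
        rw [mul_assoc, h3]
      exact (mul_right_cancel h4).symm

/-- **The row `M₁₂`.** -/
theorem m12 (M : D9.Cut.Mult.{u}) : XRow.{u} (fun X _ => Spor.IsoM12 X) := by
  intro X _ _ hs hna h
  have h1 := h
  obtain ⟨e⟩ := h
  refine noCov_of_dbl hs hna ?_ (NoDblL2.congr (Y := H) e row)
  intro N _ hN hX
  obtain ⟨f⟩ := hX
  exact M.two N hN (exc2_congr f.symm (Or.inr (Or.inr (Or.inr (Or.inr (Or.inr (Or.inr (Or.inl h1))))))))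

end Cfsg.Agent.OddHalf.NI.Ex.RowM12
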