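import Cfsg.Agent.OddHalf.NI.Ex.RankCon
import Cfsg.Agent.OddHalf.D9.M22.EDataM22
import Cfsg.Agent.OddHalf.Small.Mathieu
import Cfsg.Agent.OddHalf.NI.Ex.Cut

/-!
# (EX), row `M22` (helper803)

`M22` is of characteristic 2 type; every outer involutory automorphism centralises a conjugate of the subgroup `E`,
elementary abelian of order 16.
-/

set_option autoImplicit false

namespace Cfsg.Agent.OddHalf.NI.Ex.RowM22

open Subgroup Cfsg Cfsg.Agent.OddHalf.Iface Cfsg.Agent.OddHalf.NI Cfsg.Agent.OddHalf.NI.Ex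
open Cfsg.Agent.OddHalf.D9.M22 Cfsg.Agent.OddHalf.D9.M22.EDataM22

universe u

theorem card_E22 : Nat.card ↥E22 = 16 := by
  rw [← card_E]
  exact Nat.card_congr (subgroupOfEquivOfLe E_le).toEquiv

theorem E22_sq {x : Spor.M22} (hx : x ∈ E22) : x * x = 1 := Subtype.ext (E_sq hx)

/-- an involutory automorphism is inner or centralises an elementary abelian group of order 16 -/
theorem exists_sixteen {X : Type u} [Group X] (h : Spor.IsoM22 X) {α : MulAut X} (hα : α * α = 1) :
    (∃ x, α = MulAut.conj x) ∨ ∃ A : Subgroup X, A ≤ fix α ∧ (∀ a ∈ A, a * a = 1) ∧ Nat.card ↥A = 16 := by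
  obtain ⟨e⟩ := h
  let β : MulAut Spor.M22 := MulAut.congr e α
  have hβ : β * β = 1 := by rw [← map_mul, hα, map_one]
  have h1 : ∀ y, β (e y) = e (α y) := fun y => by
    change e (α (e.symm (e y))) = e (α y)
    rw [MulEquiv.symm_apply_apply]
  by_cases hin : ∀ m, β ≠ MulAut.conj m
  · right
    obtain ⟨g, hg⟩ := outer β hβ hin
    let f : Spor.M22 →* X := e.symm.toMonoidHom.comp (MulAut.conj g).toMonoidHom
    have hf : Function.Injective f := e.symm.injective.comp (MulAut.conj g).injective
    have hfa : ∀ x, f x = e.symm (g * x * g⁻¹) := fun _ => rfl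
    refine ⟨E22.map f, ?_, ?_, ?_⟩
    · rintro _ ⟨x, hx, rfl⟩
      rw [mem_fix, hfa]
      apply e.injective
      rw [← h1, MulEquiv.apply_symm_apply, hg x hx]
    · rintro _ ⟨x, hx, rfl⟩
      rw [← map_mul, E22_sq hx, map_one]
    · rw [← card_E22]
      exact (Nat.card_congr (E22.equivMapOfInjective f hf).toEquiv).symm
  · left
    push Not at hin
    obtain ⟨m, hm⟩ := hin
    refine ⟨e.symm m, ?_⟩
    ext x
    apply e.injective
    rw [← h1, hm, MulAut.conj_apply, MulAut.conj_apply, map_mul, map_mul, map_inv, MulEquiv.apply_symm_apply]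

theorem center_eq_bot {X : Type u} [Group X] (hs : IsSimpleGroup X) (hna : ¬ IsMulCommutative X) :
    center X = ⊥ := by
  rcases hs.eq_bot_or_eq_top_of_normal (center X) inferInstance with h1 | h1
  · exact h1
  · exfalso
    apply hna
    refine ⟨⟨fun a b => ?_⟩⟩
    have h3 : b ∈ center X := by rw [h1]; exact mem_top _
    exact mem_center_iff.1 h3 a

theorem noL2_m22 {X : Type u} [Group X] [Finite X] (hs : IsSimpleGroup X) (hna : ¬ IsMulCommutative X)
    (h : Spor.IsoM22 X) : NoL2 X := by
  intro α hα J hJ h2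
  have hC : IsCharacteristicTwoType X := Small.Mathieu.m22 h
  have h1 : α * α = 1 := by rw [← pow_two, ← hα, pow_orderOf_eq_one]
  rcases exists_sixteen h h1 with ⟨x, rfl⟩ | ⟨A, hA, hA2, hc⟩
  · have hx : x ∈ center X → False := by
      intro hx
      have h3 : MulAut.conj x = 1 := by
        ext y
        rw [MulAut.conj_apply, MulAut.one_apply, ← mem_center_iff.1 hx y, mul_inv_cancel_right]
      rw [h3, orderOf_one] at hα
      omega
    have hxx : x * x ∈ center X := by
      rw [mem_center_iff]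
      intro y
      have h3 := DFunLike.congr_fun h1 y
      rw [MulAut.mul_apply, MulAut.conj_apply, MulAut.conj_apply, MulAut.one_apply] at h3
      calc y * (x * x) = x * (x * y * x⁻¹) * x⁻¹ * (x * x) := by rw [h3]
        _ = x * x * y := by group
    have hZ : center X = ⊥ := center_eq_bot hs hna
    rw [hZ, mem_bot] at hxx
    have hx1 : x ≠ 1 := fun h3 => hx (by rw [h3]; exact one_mem _)
    have hb := (RankCon.con_of_char hC hxx hx1).balance h1 (by rw [MulAut.conj_apply]; group) hxx hJ
    obtain ⟨j, hj, hne⟩ := hb.2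
    apply hne
    have h4 := hJ.le hj
    rw [mem_fix, MulAut.conj_apply] at h4
    exact mul_inv_eq_iff_eq_mul.1 h4
  · refine RankCon.rank_false h1 hJ h2 hA hA2 (fun a ha ha1 => RankCon.con_of_char hC (hA2 a ha) ha1) ?_
    rw [hc]
    norm_num

/-- **row `M22`** -/
theorem m22 : XRow.{u} (fun X _ => Spor.IsoM22 X) := fun _ _ _ hs hna h => (noL2_m22 hs hna h).noCov

end Cfsg.Agent.OddHalf.NI.Ex.RowM22
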