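import Cfsg.Agent.OddHalf.NI3.Bad.ExRuK
import Cfsg.Agent.OddHalf.NI.Ex.Cut
import Cfsg.Agent.OddHalf.Table.OutRu
import Cfsg.Agent.RuLat.Hom

/-!
# (EX): the row `Ru`

`noL2`: no involutory automorphism of the Rudvalis group has a component `L₂(q)`: the automorphisms are inner, the
centralizer of an involution of class 2B has no element of order three, the elements of order three in the centralizer
of an involution of class 2A do not centralize its largest normal 2-subgroup.
-/

set_option autoImplicit false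

namespace Cfsg.Agent.OddHalf.NI.Ex.RowRu

open Subgroup Cfsg Cfsg.Agent.OddHalf.NI.Ex Cfsg.Agent.SporadicB

universe u

/-- `PSL₂(F)` has an element of order three -/
theorem exists_three {F : Type*} [Field F] :
    ∃ b : Matrix.ProjectiveSpecialLinearGroup (Fin 2) F, b * b * b = 1 ∧ b ≠ 1 := by
  let m : Matrix.SpecialLinearGroup (Fin 2) F := ⟨!![0, 1; -1, -1], by rw [Matrix.det_fin_two_of]; ring⟩
  let u : Matrix.SpecialLinearGroup (Fin 2) F := ⟨!![1, 1; 0, 1], by rw [Matrix.det_fin_two_of]; ring⟩
  refine ⟨QuotientGroup.mk m, ?_, ?_⟩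
  · have h : m * m * m = 1 := by
      apply Subtype.ext
      show (!![0, 1; -1, -1] : Matrix (Fin 2) (Fin 2) F) * !![0, 1; -1, -1] * !![0, 1; -1, -1] = 1
      ext i j
      fin_cases i <;> fin_cases j <;> simp [Matrix.mul_apply, Fin.sum_univ_two]
    rw [← QuotientGroup.mk_mul, ← QuotientGroup.mk_mul, h, QuotientGroup.mk_one]
  · intro h
    rw [QuotientGroup.eq_one_iff] at h
    have h1 := mem_center_iff.1 h u
    have h2 : (!![1, 1; 0, 1] : Matrix (Fin 2) (Fin 2) F) * !![0, 1; -1, -1] = !![0, 1; -1, -1] * !![1, 1; 0, 1] :=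
      congrArg Subtype.val h1
    have h3 := congrFun (congrFun h2 0) 0
    simp [Matrix.mul_apply, Fin.sum_univ_two] at h3

/-- every automorphism is inner -/
theorem exists_inner {X : Type u} [Group X] (e : X ≃* RuOrder.H) (α : MulAut X) : ∃ g : X, ∀ x, α x = g * x * g⁻¹ := by
  obtain ⟨g, hg⟩ := Cfsg.Agent.OddHalf.Table.OutRu.inner ((e.symm.trans α).trans e)
  refine ⟨e.symm g, fun x => ?_⟩
  have h1 := congrArg (fun β : MulAut RuOrder.H => e.symm (β (e x))) hg
  simp only [MulEquiv.trans_apply, MulEquiv.symm_apply_apply, MulAut.conj_apply, map_mul, map_inv] at h1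
  exact h1

theorem noL2_of {X : Type u} [Group X] [Finite X] (e : X ≃* RuOrder.H) : NoL2 X := by
  rintro α hα J hJ ⟨F, _, _, hodd, h3, ⟨θ⟩⟩
  obtain ⟨u, hu⟩ := exists_inner e α
  have hcen : ∀ c : X, (∀ x, c * x = x * c) → c = 1 := by
    intro c hc
    apply e.injective
    rw [map_one]
    have h1 : e c ∈ center RuOrder.H := mem_center_iff.2 fun y => by
      have h2 := congrArg e (hc (e.symm y))
      rw [map_mul, map_mul, e.apply_symm_apply] at h2
      exact h2.symm
    rw [Cfsg.Agent.RuLat.center_H, mem_bot] at h1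
    exact h1
  -- `u` is an involution
  have haa : ∀ x, α (α x) = x := by
    intro x
    have h1 : α * α = 1 := by rw [← pow_two, ← hα, pow_orderOf_eq_one]
    rw [← MulAut.mul_apply, h1, MulAut.one_apply]
  have huu : u * u = 1 := by
    apply hcen
    intro x
    have h1 := haa x
    rw [hu, hu] at h1
    calc u * u * x = (u * (u * x * u⁻¹) * u⁻¹) * (u * u) := by group
      _ = _ := by rw [h1]
  have hu1 : u ≠ 1 := by
    rintro rfl
    have h1 : α = 1 := by
      ext x
      rw [hu, MulAut.one_apply]; group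
    rw [h1, orderOf_one] at hα
    omega
  have hmem : ∀ x, x ∈ fix α ↔ x * u = u * x := by
    intro x
    rw [mem_fix, hu, mul_inv_eq_iff_eq_mul]
    exact eq_comm
  -- an element of order three in `J`
  obtain ⟨b₀, hb₀, hb₁⟩ := exists_three (F := F)
  obtain ⟨b, hb⟩ : ∃ b : ↥J, b = θ.symm b₀ := ⟨_, rfl⟩
  have hb3 : (b : X) * b * b = 1 := by
    have h1 : b * b * b = 1 := by rw [hb, ← map_mul, ← map_mul, hb₀, map_one]
    exact congrArg Subtype.val h1
  have hbne : (b : X) ≠ 1 := by
    intro h
    have h1 : b = 1 := Subtype.ext h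
    rw [hb] at h1
    exact hb₁ (θ.symm.injective (by rw [h1, map_one]))
  have hbu : (b : X) * u = u * b := (hmem b).1 (hJ.le b.2)
  have ebu : e b * e u = e u * e b := by rw [← map_mul, hbu, map_mul]
  have eb3 : e b * e b * e b = 1 := by rw [← map_mul, ← map_mul, hb3, map_one]
  have ebne : e b ≠ 1 := fun h => hbne (e.injective (by rw [h, map_one]))
  rcases Cfsg.Agent.OddHalf.NI3.Bad.ExRuK.main (z := e u) (by rw [← map_mul, huu, map_one])
    (fun h => hu1 (e.injective (by rw [h, map_one]))) with ⟨B, hB⟩ | h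
  · obtain ⟨y, hy, hne⟩ := hB.three (e b) ebu eb3 ebne
    apply hne
    -- `B` commutes with the component
    have hcomm : e.symm y * b = b * e.symm y := by
      let Q : Subgroup X := B.comap e.toMonoidHom
      have hQm : ∀ q, q ∈ Q ↔ e q ∈ B := fun q => Iff.rfl
      have hQ2 : IsPGroup 2 Q := hB.two.comap_of_injective _ e.injective
      have hQf : Q ≤ fix α := by
        intro q hq
        rw [hmem]
        apply e.injective
        rw [map_mul, map_mul]
        exact hB.comm _ hq
      have h2 : IsPGroup 2 ↥(Q.subgroupOf (fix α)) := hQ2.comap_of_injective _ (fix α).subtype_injective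
      have : Group.IsNilpotent ↥(Q.subgroupOf (fix α)) := by
        have : Fact (Nat.Prime 2) := ⟨Nat.prime_two⟩
        exact h2.isNilpotent
      have h3 := Cfsg.Agent.Lib.ComponentSolvable.commutator_component_solvable_eq_bot hJ.comp
        (R := Q.subgroupOf (fix α)) inferInstance (by
          intro x _
          rw [mem_normalizer_iff]
          have key : ∀ (x y : ↥(fix α)), y ∈ Q.subgroupOf (fix α) → x * y * x⁻¹ ∈ Q.subgroupOf (fix α) := by
            intro x y hy
            rw [mem_subgroupOf, hQm] at hy ⊢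
            have hx : e (x : X) * e u = e u * e (x : X) := by
              rw [← map_mul, (hmem x).1 x.2, map_mul]
            have h5 := hB.nor _ hx _ hy
            rw [coe_mul, coe_mul, coe_inv, map_mul, map_mul, map_inv]
            exact h5
          intro y
          refine ⟨key x y, fun h => ?_⟩
          have h4 := key x⁻¹ _ h
          rwa [inv_inv, show x⁻¹ * (x * y * x⁻¹) * x = y by group] at h4)
      have hyQ : e.symm y ∈ Q := by rw [hQm, e.apply_symm_apply]; exact hy
      have h4 := commutator_mem_commutator (g₁ := (⟨b, hJ.le b.2⟩ : ↥(fix α))) (g₂ := ⟨e.symm y, hQf hyQ⟩)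
        (H₁ := J.subgroupOf (fix α)) (H₂ := Q.subgroupOf (fix α)) (mem_subgroupOf.2 b.2) (mem_subgroupOf.2 hyQ)
      rw [h3, mem_bot, commutatorElement_eq_one_iff_mul_comm] at h4
      exact (congrArg Subtype.val h4).symm
    have h1 : y * e b = e b * y := by
      have h2 := congrArg e hcomm
      rwa [map_mul, map_mul, e.apply_symm_apply] at h2
    have h2 : y * e b * y⁻¹ * (e b)⁻¹ = 1 := by rw [h1]; group
    rw [h2, one_mul]
  · exact ebne (h (e b) ebu eb3)

/-- **row `Ru`** -/
theorem ru : XRow.{u} (fun X _ => Spor.IsoRu X) := by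
  intro X _ _ _ _ hX
  obtain ⟨e⟩ := hX
  exact (noL2_of (e.trans Cfsg.Agent.RuLat.Main.equiv)).noCov

end Cfsg.Agent.OddHalf.NI.Ex.RowRu
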