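import Cfsg.Agent.OddHalf.NI.Ex.Cut
import Cfsg.Agent.OddHalf.NI3.Ex.SpSix

/-!
# (EX), the row `Sp₆(2)`: all automorphisms are inner and `X` is of characteristic 2 type (helper367, from helper5's
`NI3/Ex/SpSix.lean`)
-/

set_option autoImplicit false

namespace Cfsg.Agent.OddHalf.NI.Ex.RowSp62

open Subgroup Cfsg Cfsg.Agent.OddHalf.Iface Cfsg.Agent.OddHalf.NI.Ex Cfsg.Agent.OddHalf.D9.Cut

universe u

/-- The row `Sp₆(2)`. -/
theorem sp62 : XRow.{u} (fun X _ => XSp62 X) := fun X _ _ hs hna h =>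
  NoL2.noCov fun _ hα _ hJ _ =>
    NI3.Ex.no_comp_of_inner (NI3.Ex.ct_sp62 hs hna h) (NI3.Ex.inner_sp62 hs hna h) hα hJ

end Cfsg.Agent.OddHalf.NI.Ex.RowSp62
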