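import Cfsg.Agent.OddHalf.NI.Ex.OfLarge
import Cfsg.Agent.KFacts.SuzLarge

/-!
# (EX): the row of the Suzuki group (helper604)
-/

set_option autoImplicit false

namespace Cfsg.Agent.OddHalf.NI.Ex

open Cfsg Cfsg.Agent.KFacts

theorem hasGood_suz {X : Type*} [Group X] (h : Spor.IsoSuz X) : HasGood X := by
  obtain ⟨e⟩ := h
  have : Finite Spor.Suz := by
    apply Nat.finite_of_card_ne_zero
    rw [SporadicRecognition.SuzOrder.card_Suz]
    norm_num
  exact (hasGood_of_large SuzLarge.large SuzSheet.odd_index SuzR.perfect').congr e.symm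

end Cfsg.Agent.OddHalf.NI.Ex
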