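import Cfsg.Agent.OddHalf.NI.Ex.Cut
import Cfsg.Agent.OddHalf.D8.Fi22.OrdEven
import Cfsg.Agent.S0243

/-!
# (EX): the row of the Suzuki groups (helper604)

`3` divides the order of `L₂(q)`, but not the order of `Sz(q)`.
-/

set_option autoImplicit false

namespace Cfsg.Agent.OddHalf.NI.Ex.RowSz

open Subgroup Cfsg Cfsg.Agent.OddHalf.D9.Cut Cfsg.Agent.OddHalf.NI.Ex

universe u

theorem three_dvd_l2 {F : Type*} [Field F] [Fintype F] (h1 : Odd (Fintype.card F)) (h3 : 3 < Fintype.card F) :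
    3 ∣ Nat.card (Matrix.ProjectiveSpecialLinearGroup (Fin 2) F) := by
  have h := Cfsg.Agent.S0243.result (F := F) rfl 2 le_rfl
  obtain ⟨m, hm⟩ := h1
  rw [hm] at h h3
  have e1 : Nat.gcd 2 (2 * m + 1 - 1) = 2 := by
    rw [Nat.add_sub_cancel]
    exact Nat.gcd_eq_left (dvd_mul_right 2 m)
  have e2 : (2 * m + 1) ^ 2 - 1 = 2 * m * (2 * m + 2) := by
    rw [Nat.sub_eq_iff_eq_add (Nat.one_le_pow _ _ (by omega))]
    ring
  have e3 : (2 * m + 1) ^ 2 - (2 * m + 1) = 2 * m * (2 * m + 1) := by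
    rw [Nat.sub_eq_iff_eq_add (by nlinarith)]
    ring
  rw [e1, Fin.prod_univ_two, Fin.val_zero, Fin.val_one, pow_zero, pow_one, e2, e3, Nat.add_sub_cancel] at h
  have h4 : 4 * m * Nat.card (Matrix.ProjectiveSpecialLinearGroup (Fin 2) F) =
      4 * m * (m * (2 * m + 1) * (2 * m + 2)) := by linarith
  have h5 := Nat.eq_of_mul_eq_mul_left (by omega) h4
  rw [h5]
  have h6 : m % 3 = 0 ∨ m % 3 = 1 ∨ m % 3 = 2 := by omega
  rcases h6 with h | h | h
  · exact ((Nat.dvd_of_mod_eq_zero h).mul_right _).mul_right _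
  · exact (Dvd.dvd.mul_left (Nat.dvd_of_mod_eq_zero (by omega)) _).mul_right _
  · exact Dvd.dvd.mul_left (Nat.dvd_of_mod_eq_zero (by omega)) _

theorem noL2_of_three {X : Type u} [Group X] [Finite X] (h : ¬ 3 ∣ Nat.card X) : NoL2 X := by
  rintro α - J - ⟨F, _, _, h1, h3, ⟨e⟩⟩
  apply h
  refine (three_dvd_l2 h1 h3).trans ?_
  rw [← Nat.card_congr e.toEquiv]
  exact J.card_subgroup_dvd_card

/-- **The row `Sz(q)`.** -/
theorem sz : XRow.{u} (fun X _ => XSz X) :=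
  fun _ _ _ _ _ h => (noL2_of_three (D8.Fi22.OrdEven.sz h)).noCov

end Cfsg.Agent.OddHalf.NI.Ex.RowSz
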