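import Cfsg.Agent.OddHalf.NI.Ex.OfLarge
import Cfsg.Agent.OddHalf.D9.Cut
import Cfsg.Agent.TwoESix.SheetA

/-!
# (EX): the row `²E₆(2)` (helper604)
-/

set_option autoImplicit false

namespace Cfsg.Agent.OddHalf.NI.Ex

open Cfsg Cfsg.Agent.TwoESix.LongCard

theorem hasGood_te62 {X : Type*} [Group X] [Finite X] (h : D9.Cut.X2E62 X) : HasGood X := by
  obtain ⟨K, i1, i2, hK, ⟨e⟩⟩ := h
  have : Finite ↥(Lie.twistedE6 K 2) := Finite.of_equiv X e.toEquiv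
  obtain ⟨-, φ, F⟩ := Cfsg.Agent.TwoESix.LeviA.exists_four K hK
  exact (hasGood_of_large (Cfsg.Agent.TwoESix.SheetA.large F) (by rw [index_cent F]; decide)
    (Cfsg.Agent.TwoESix.SheetA.perf F)).congr e.symm

end Cfsg.Agent.OddHalf.NI.Ex
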