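import Cfsg.Agent.OddHalf.NI.Ex.Cut
import Cfsg.Agent.OddHalf.NI.Ex.Lemma
import Cfsg.Agent.OddHalf.NI.Ex.HasTwE

/-!
# (EX): the row `²E₆(2)` (helper604)
-/

set_option autoImplicit false

namespace Cfsg.Agent.OddHalf.NI.Ex.RowTwE

open Cfsg Cfsg.Agent.OddHalf.D9.Cut Cfsg.Agent.OddHalf.NI.Ex

universe u

/-- **The row `²E₆(2)`.** -/
theorem te62 : XRow.{u} (fun X _ => X2E62 X) :=
  fun _ _ _ _ _ h => Lemma.noCov_of_good (hasGood_te62 h)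

end Cfsg.Agent.OddHalf.NI.Ex.RowTwE
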