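import Cfsg.Agent.OddHalf.NI.Ex.OfSheet
import Cfsg.Agent.OddHalf.D9.Cut
import Cfsg.Agent.KFacts.Unit.SheetTwo
import Cfsg.Agent.KFacts.Unit.FrontKF
import Cfsg.Agent.KFacts.Unit.Cent

/-!
# (EX): the row `U₆(2)` (helper604)

`hasGood_psu`: every involutory automorphism of `PSU_n(2)`, `n ≥ 6`, fixes a transvection.
-/

set_option autoImplicit false

namespace Cfsg.Agent.OddHalf.NI.Ex

open Subgroup Cfsg Cfsg.Agent.LieClassical.HermBasic Cfsg.Agent.LieClassical.SUBasic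
  Cfsg.Agent.ClassicalGeometry.PSUAutBasic Cfsg.Agent.ClassicalGeometry.PSUAutSylow
  Cfsg.Agent.ClassicalGeometry.PSUAutUnip Cfsg.Agent.ClassicalGeometry.PSUAutPhi Cfsg.Agent.KFacts.Unit
  Cfsg.Agent.KFacts.Unit.SheetTwo

/-- The elements of 2-power order of `C` lie in the perfect subgroup `P`. -/
theorem le_closure_of_two {X : Type*} [Group X] [Finite X] {C P : Subgroup X} (hPC : P ≤ C) (hp : ⁅P, P⁆ = P)
    (h : ∀ x ∈ C, ∀ k : ℕ, x ^ 2 ^ k = 1 → x ∈ P) : C ≤ closure {g | g ∈ C ∧ Odd (orderOf g)} := by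
  intro x hx
  have hP : P ≤ closure {g | g ∈ C ∧ Odd (orderOf g)} :=
    (closure_odd hp).trans (closure_mono fun _ hg => ⟨hPC hg.1, hg.2⟩)
  obtain ⟨k, m, hm, hkm⟩ := Nat.exists_eq_two_pow_mul_odd (orderOf_pos x).ne'
  have hcop : IsCoprime ((2 ^ k : ℕ) : ℤ) (m : ℤ) :=
    Nat.isCoprime_iff_coprime.2 ((Nat.coprime_two_left.2 hm).pow_left k)
  obtain ⟨a, b, hab⟩ := hcop
  have e1 : x = x ^ (a * ((2 ^ k : ℕ) : ℤ)) * x ^ (b * (m : ℤ)) := by
    rw [← zpow_add, hab, zpow_one]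
  have e2 : x ^ (((2 ^ k : ℕ) : ℤ) * (m : ℤ)) = 1 := by
    rw [← Nat.cast_mul, ← hkm, zpow_natCast, pow_orderOf_eq_one]
  rw [e1]
  refine mul_mem (Subgroup.subset_closure ⟨zpow_mem hx _, ?_⟩) (hP (h _ (zpow_mem hx _) k ?_))
  · refine hm.of_dvd_nat (orderOf_dvd_of_pow_eq_one ?_)
    rw [← zpow_natCast, ← zpow_mul, mul_assoc, zpow_mul', e2, one_zpow]
  · rw [← zpow_natCast, ← zpow_mul, mul_assoc, mul_comm (m : ℤ), zpow_mul', e2, one_zpow]

section

variable {F : Type*} [Field F] [Fintype F] {n : ℕ} [CharP F 2] {e f : Fin n → F}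

theorem conj_PP (hF : Fintype.card F = 2 ^ 2) (hn : 3 ≤ n) (H : IsFrame 2 e f) {x y : PSU n F 2}
    (hx : x * zt hF H.ee = zt hF H.ee * x) (hy : y ∈ PP 2 e) : x * y * x⁻¹ ∈ PP 2 e := by
  obtain ⟨g, rfl⟩ := pr_surjective x
  obtain ⟨c, hc, hcg⟩ := eigen_of_comm hF hn (frame_ne_zero H) H.ee hx
  have h := PP_conj g hy
  rwa [hcg, PP_smul hc] at h

theorem conj_QQ (hF : Fintype.card F = 2 ^ 2) (hn : 3 ≤ n) (H : IsFrame 2 e f) {x : PSU n F 2}
    (hx : x * zt hF H.ee = zt hF H.ee * x) : ∀ y ∈ QQ hF e H.ee, x * y * x⁻¹ ∈ QQ hF e H.ee := by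
  have hx' : x⁻¹ * zt hF H.ee = zt hF H.ee * x⁻¹ := by
    rw [inv_mul_eq_iff_eq_mul, ← mul_assoc, hx, mul_inv_cancel_right]
  have h := Rmax hF hn H ((QQ hF e H.ee).map (MulAut.conj x).toMonoidHom) ?_ ((R2 hF H.ee).map _) ?_
  · exact fun y hy => h ⟨y, hy, rfl⟩
  · rintro _ ⟨y, hy, rfl⟩
    exact conj_PP hF hn H hx (QQ_le_PP hF H.ee hy)
  · rintro p hp _ ⟨y, hy, rfl⟩
    have h1 := conj_PP hF hn H hx' hp
    rw [inv_inv] at h1
    refine ⟨_, PP_conj_QQ hF H.ee h1 hy, ?_⟩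
    change x * (x⁻¹ * p * x * y * (x⁻¹ * p * x)⁻¹) * x⁻¹ = p * (x * y * x⁻¹) * p⁻¹
    group

theorem good_zt (hF : Fintype.card F = 2 ^ 2) (hn : 6 ≤ n) (H : IsFrame 2 e f) : Good (zt hF H.ee) where
  con := by
    refine ⟨QQ hF e H.ee, R2 hF H.ee, ?_, ?_, ?_⟩
    · intro x hx
      exact mem_centralizer_singleton_iff.2 (zt_P hF H.ee (QQ_le_PP hF H.ee hx))
    · intro x hx y hy
      exact conj_QQ hF (by omega) H (mem_centralizer_singleton_iff.1 hx) y hy
    · intro x _ hx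
      obtain ⟨r, hr, hxr⟩ := autCent_point hF (by omega) (frame_ne_zero H) H.ee (MulAut.conj x) (fun y hy => by
        rw [MulAut.conj_apply, hx y hy, mul_inv_cancel_right])
      have h1 : x = r := by
        have h2 : r⁻¹ * x ∈ Subgroup.center (PSU n F 2) := by
          rw [Subgroup.mem_center_iff]
          intro y
          have h3 := DFunLike.congr_fun hxr y
          rw [MulAut.conj_apply, MulAut.conj_apply] at h3
          have h4 : x * y = r * y * r⁻¹ * x := by rw [← h3, inv_mul_cancel_right]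
          rw [mul_assoc r⁻¹ x y, h4]
          group
        rw [center_eq_bot' hF hn (frame_ne_zero H) H.ee, Subgroup.mem_bot] at h2
        exact (inv_mul_eq_one.1 h2).symm
      rw [h1]
      exact RR_le_QQ hF H.ee hr
  gen := by
    refine (le_closure_of_two (P := PP 2 e) ?_ (PP_perfect hF hn (frame_ne_zero H) H.ee) ?_).trans
      (closure_mono fun _ hx => ⟨hx.1, Or.inl hx.2⟩)
    · intro x hx
      exact mem_centralizer_singleton_iff.2 (zt_P hF H.ee hx)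
    · intro x hx k hk
      exact mem_PP_of_commute hF (by omega) (frame_ne_zero H) H.ee (zt_mem hF H.ee)
        (zt_ne hF (by omega) (frame_ne_zero H) H.ee) hk (mem_centralizer_singleton_iff.1 hx)

theorem hasGood_psu (hF : Fintype.card F = 2 ^ 2) (hn : 6 ≤ n) : HasGood (PSU n F 2) := by
  obtain ⟨e, f, H⟩ := exists_frame (F := F) (q := 2) (n := n) hF (by omega)
  exact hasGood_of (zt_sq hF H.ee) (zt_ne hF (by omega) (frame_ne_zero H) H.ee) (syl hF hn (frame_ne_zero H) H.ee)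
    (good_zt hF hn H)

end

theorem hasGood_u62 {X : Type*} [Group X] (h : D9.Cut.XU62 X) : HasGood X := by
  obtain ⟨F, i1, i2, hF, ⟨e⟩⟩ := h
  have : CharP F 2 := by
    have : Fact (Nat.Prime 2) := ⟨Nat.prime_two⟩
    exact charP_of_card_eq_prime_pow (f := 2) (by rw [hF]; norm_num)
  exact (hasGood_psu (F := F) (n := 6) (by rw [hF]; norm_num) le_rfl).congr e.symm

end Cfsg.Agent.OddHalf.NI.Ex
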