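import Cfsg.Agent.UGT.SL.FactsL2

/-!
# Elementary abelian 2-groups of automorphisms of `L₂(q)`, `q` odd (helper604)

* `card_le_four` : an elementary abelian 2-subgroup of `L ≅ PSL(2,F)`, `2 ≠ 0` in `F`, has order at most 4;
* `card_le_eight` : an elementary abelian 2-subgroup of `Aut(L)`, `F` finite, has order at most 8.
-/

set_option autoImplicit false

namespace Cfsg.Agent.OddHalf.NI.Ex.RankAut

open Cfsg.Agent.GH.L2Aut

section Four

variable {F : Type*} [Field F] {L : Type*} [Group L] (R : Cfsg.Agent.GH.L2Aut.Rep F L)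

local notation "SL2" => Matrix.SpecialLinearGroup (Fin 2) F

include R

theorem exists_lift {a : L} (ha : a * a = 1) (ha1 : a ≠ 1) : ∃ x : SL2, R.π x = a ∧ x * x = -1 := by
  obtain ⟨x, rfl⟩ := R.surj a
  refine ⟨x, rfl, ?_⟩
  rw [← map_mul, R.ker] at ha
  rcases ha with h | h
  · exfalso
    apply ha1
    exact (R.ker x).2 (Cfsg.Agent.Lib.PSL2Inv.sq_eq_one R.two h)
  · exact h

theorem eq_of_comm {x y : SL2} (hx : x * x = -1) (hy : y * y = -1) (h : x * y = y * x) : R.π x * R.π y = 1 := by
  have h1 : (x * y) * (x * y) = 1 := by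
    calc (x * y) * (x * y) = x * (y * x) * y := by group
      _ = x * (x * y) * y := by rw [h]
      _ = (x * x) * (y * y) := by group
      _ = 1 := by rw [hx, hy, neg_mul_neg, one_mul]
  rw [← map_mul]
  exact (R.ker _).2 (Cfsg.Agent.Lib.PSL2Inv.sq_eq_one R.two h1)

theorem anti {x y : SL2} (hx : x * x = -1) (hy : y * y = -1) (h : R.π x * R.π y = R.π y * R.π x)
    (hne : R.π x * R.π y ≠ 1) : x * y = -(y * x) := by
  rw [← map_mul, ← map_mul, R.π_eq_iff] at h
  rcases h with h | h
  · exact absurd (eq_of_comm R hx hy h) hne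
  · exact h

/-- Three pairwise commuting, pairwise different involutions of `PSL(2,F)` have product 1. -/
theorem mul_eq_one {a b c : L} (ha : a * a = 1) (hb : b * b = 1) (hc : c * c = 1) (ha1 : a ≠ 1) (hb1 : b ≠ 1)
    (hc1 : c ≠ 1) (hab : a * b = b * a) (hac : a * c = c * a) (hbc : b * c = c * b) (h1 : a * b ≠ 1)
    (h2 : a * c ≠ 1) (h3 : b * c ≠ 1) : a * (b * c) = 1 := by
  obtain ⟨x, rfl, hx⟩ := exists_lift R ha ha1
  obtain ⟨y, rfl, hy⟩ := exists_lift R hb hb1
  obtain ⟨z, rfl, hz⟩ := exists_lift R hc hc1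
  have e1 := anti R hx hy hab h1
  have e2 := anti R hx hz hac h2
  have e3 := anti R hy hz hbc h3
  have hw : (y * z) * (y * z) = -1 := by
    calc (y * z) * (y * z) = y * (z * y) * z := by group
      _ = y * (-(y * z)) * z := by rw [e3, neg_neg]
      _ = -((y * y) * (z * z)) := by
          rw [mul_neg, neg_mul]; congr 1; group
      _ = -1 := by rw [hy, hz, neg_mul_neg, one_mul]
  have hc' : x * (y * z) = (y * z) * x := by
    calc x * (y * z) = (x * y) * z := by group
      _ = -(y * x) * z := by rw [e1]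
      _ = -(y * (x * z)) := by rw [neg_mul]; congr 1; group
      _ = y * z * x := by rw [e2, mul_neg, neg_neg]; group
  have := eq_of_comm R hx hw hc'
  rw [map_mul] at this
  exact this

/-- An elementary abelian 2-subgroup of `PSL(2,F)` has order at most 4. -/
theorem card_le_four [Finite L] (E : Subgroup L) (hE : ∀ a ∈ E, a * a = 1) : Nat.card E ≤ 4 := by
  classical
  haveI := Fintype.ofFinite L
  by_contra hcon
  push Not at hcon
  rw [Nat.card_eq_fintype_card] at hcon
  have hcomm : ∀ a ∈ E, ∀ b ∈ E, a * b = b * a := by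
    intro a ha b hb
    have h1 := hE _ (mul_mem ha hb)
    have h2 : a⁻¹ = a := inv_eq_of_mul_eq_one_right (hE a ha)
    have h3 : b⁻¹ = b := inv_eq_of_mul_eq_one_right (hE b hb)
    calc a * b = (a * b)⁻¹ := (inv_eq_of_mul_eq_one_right h1).symm
      _ = b * a := by rw [mul_inv_rev, h2, h3]
  have key : ∀ S : Finset E, S.card ≤ 4 → ∃ c : E, c ∉ S := by
    intro S hS
    by_contra h
    push Not at h
    have : S = Finset.univ := Finset.eq_univ_iff_forall.2 h
    rw [this, Finset.card_univ] at hS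
    omega
  obtain ⟨a, ha⟩ := key {1} (by simp)
  obtain ⟨b, hb⟩ := key {1, a} (le_trans Finset.card_le_two (by norm_num))
  obtain ⟨c, hc⟩ := key {1, a, b, a * b} Finset.card_le_four
  simp only [Finset.mem_singleton, Finset.mem_insert, not_or] at ha hb hc
  obtain ⟨hb1, hb2⟩ := hb
  obtain ⟨hc1, hc2, hc3, hc4⟩ := hc
  have inv : ∀ g : E, g⁻¹ = g := fun g => inv_eq_of_mul_eq_one_right (Subtype.ext (hE _ g.2))
  have ne : ∀ g h : E, g ≠ h → (g : L) * h ≠ 1 := by
    intro g h hgh h1
    apply hgh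
    have h2 : g * h = 1 := Subtype.ext h1
    rw [← inv h]
    exact eq_inv_of_mul_eq_one_left h2
  have ne1 : ∀ g : E, g ≠ 1 → (g : L) ≠ 1 := fun g hg h => hg (Subtype.ext h)
  have h := mul_eq_one R (hE _ a.2) (hE _ b.2) (hE _ c.2) (ne1 _ ha) (ne1 _ hb1) (ne1 _ hc1)
    (hcomm _ a.2 _ b.2) (hcomm _ a.2 _ c.2) (hcomm _ b.2 _ c.2) (ne _ _ (Ne.symm hb2)) (ne _ _ (Ne.symm hc2))
    (ne _ _ (Ne.symm hc3))
  apply hc4
  have h2 : (a * b) * c = 1 := by
    apply Subtype.ext
    change (a : L) * b * c = 1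
    rw [mul_assoc]
    exact h
  rw [← inv (a * b)]
  exact (inv_eq_of_mul_eq_one_right h2).symm

/-- An elementary abelian 2-subgroup of `Aut(PSL(2,F))` has order at most 8. -/
theorem card_le_eight [Finite F] [Finite L] (E : Subgroup (MulAut L)) (hE : ∀ a ∈ E, a * a = 1) : Nat.card E ≤ 8 := by
  classical
  haveI : Finite (MulAut L) := inferInstance
  have hcomm : ∀ a ∈ E, ∀ b ∈ E, a * b = b * a := by
    intro a ha b hb
    have h1 := hE _ (mul_mem ha hb)
    have h2 : a⁻¹ = a := inv_eq_of_mul_eq_one_right (hE a ha)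
    have h3 : b⁻¹ = b := inv_eq_of_mul_eq_one_right (hE b hb)
    calc a * b = (a * b)⁻¹ := (inv_eq_of_mul_eq_one_right h1).symm
      _ = b * a := by rw [mul_inv_rev, h2, h3]
  set E0 : Subgroup (MulAut L) := E ⊓ Inn L with hE0
  -- the inner part
  have h4 : Nat.card E0 ≤ 4 := by
    have h1 : E0 = (E0.comap (MulAut.conj : L →* MulAut L)).map (MulAut.conj : L →* MulAut L) := by
      rw [Subgroup.map_comap_eq]
      exact (inf_eq_right.2 inf_le_right).symm
    rw [h1]
    have h2 : Nat.card ((E0.comap (MulAut.conj : L →* MulAut L)).map (MulAut.conj : L →* MulAut L)) =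
        Nat.card (E0.comap (MulAut.conj : L →* MulAut L)) :=
      (Nat.card_congr ((E0.comap (MulAut.conj : L →* MulAut L)).equivMapOfInjective _ R.conj_injective).toEquiv).symm
    rw [h2]
    refine card_le_four R _ ?_
    intro a ha
    apply R.conj_injective
    rw [map_mul, map_one]
    exact hE _ (Subgroup.mem_inf.1 (Subgroup.mem_comap.1 ha)).1
  -- the index
  by_cases hall : ∀ a ∈ E, a ∈ Inn L
  · have : E0 = E := le_antisymm inf_le_left fun a ha => ⟨ha, hall a ha⟩
    rw [← this]
    omega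
  · push Not at hall
    obtain ⟨a, ha, ha'⟩ := hall
    let f : E → E0 × Bool := fun b =>
      if h : (b : MulAut L) ∈ Inn L then (⟨b, b.2, h⟩, true)
      else (⟨a * b, mul_mem ha b.2,
        UGT.SL.outer_mul_mem R (hE a ha) (hE b b.2) (hcomm a ha b b.2) ha' h⟩, false)
    have hf : Function.Injective f := by
      intro b c hbc
      by_cases hb : (b : MulAut L) ∈ Inn L <;> by_cases hc : (c : MulAut L) ∈ Inn L <;>
        simp only [f, hb, hc, dif_pos, dif_neg, not_false_eq_true, Prod.mk.injEq, and_true,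
          reduceCtorEq, and_false] at hbc
      · exact Subtype.ext (congrArg (fun x : E0 => (x : MulAut L)) hbc)
      · exact Subtype.ext (mul_left_cancel (congrArg (fun x : E0 => (x : MulAut L)) hbc))
    have h5 := Nat.card_le_card_of_injective f hf
    rw [Nat.card_prod] at h5
    have h6 : Nat.card Bool = 2 := by simp
    rw [h6] at h5
    omega

end Four

end Cfsg.Agent.OddHalf.NI.Ex.RankAut
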