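import Cfsg.Agent.OddHalf.NI.Ex.Final
import Cfsg.Agent.OddHalf.NI.Ex.RowUSix
import Cfsg.Agent.OddHalf.NI.Ex.RowSp62
import Cfsg.Agent.OddHalf.NI.Ex.RowGTwoFour
import Cfsg.Agent.OddHalf.NI.Ex.RowTwE
import Cfsg.Agent.OddHalf.NI.Ex.RowM12
import Cfsg.Agent.OddHalf.NI.Ex.RowJ2
import Cfsg.Agent.OddHalf.NI.Ex.RowHS
import Cfsg.Agent.OddHalf.NI.Ex.RowSuz
import Cfsg.Agent.OddHalf.NI.Ex.RowRu
import Cfsg.Agent.OddHalf.NI.Ex.RowFi22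
import Cfsg.Agent.OddHalf.NI.Ex.RowCo1
import Cfsg.Agent.OddHalf.NI.Ex.RowB
import Cfsg.Agent.OddHalf.NI.Ex.RowM22
import Cfsg.Agent.OddHalf.NI.Ex.RowSz
import Cfsg.Agent.OddHalf.NI3.Ex.OEight
import Cfsg.Agent.OddHalf.NI3.Ex.FFourRow
import Cfsg.Agent.OddHalf.D9.Final

/-!
# (EX): all rows plugged (helper367)

* `xrows : XRows` (no hypotheses).
-/

set_option autoImplicit false

namespace Cfsg.Agent.OddHalf.NI.Ex.Plug

open Subgroup Cfsg Cfsg.Agent.OddHalf.Iface Cfsg.Agent.OddHalf.LieOddFam Cfsg.Agent.OddHalf.D9.Cut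

universe u

/-- **All K-facts of (EX).** -/
theorem xrows : Final.XRows.{u} where
  u62 := RowUSix.u62
  sp62 := RowSp62.sp62
  o82 := fun _ _ _ hs hna h => (NI3.Ex.noL2_o82 hs hna h).noCov
  g24 := RowGTwoFour.g24
  f42 := NI3.Ex.FFour.f42
  te62 := RowTwE.te62
  m12 := RowM12.m12 D9.Final.mult
  j2 := RowJ2.j2
  hs := RowHS.hs
  suz := RowSuz.suz
  ru := RowRu.ru
  fi22 := RowFi22.fi22
  co1 := RowCo1.co1
  b := RowB.b
  m22 := RowM22.m22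
  sz := RowSz.sz

end Cfsg.Agent.OddHalf.NI.Ex.Plug
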