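import Cfsg.Agent.OddHalf.NI.Ex.Cut
import Cfsg.Agent.KFacts.MulDef

/-!
# (EX): the rows `NoCov X` from double covers (helper803)

`noCov_of_dbl`: if the covers of `X` with cyclic centre have centre of order at most 2, then `NoCov X` follows from the
same statement for double covers `Dbl π c`, where `J ∋ c` has an element of order 4 with square `c` over an involution
of `X`.
-/

set_option autoImplicit false

namespace Cfsg.Agent.OddHalf.NI.Ex

open Subgroup Cfsg Cfsg.Agent.OddHalf.Iface Cfsg.Agent.OddHalf.D9.Cut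
open Cfsg.Agent.SignalizersComponents
open Cfsg.Agent.KFacts.MulTwo Cfsg.Agent.KFacts.MulDef

universe u v

/-- `SL₂(q)`, `q` odd, contains an element of order 4 whose square is the central involution. -/
theorem exists_four {J : Type*} [Group J] (h : IsSL J) {y : J} (hy : orderOf y = 2) : ∃ j : J, j * j = y := by
  obtain ⟨F, iF, iF2, hF, h3, ⟨e⟩⟩ := h
  let w : Matrix.SpecialLinearGroup (Fin 2) F := ⟨!![0, 1; -1, 0], by simp⟩
  have hw : w * w = -1 := by
    apply Subtype.ext
    change (!![0, 1; -1, 0] : Matrix (Fin 2) (Fin 2) F) * !![0, 1; -1, 0] = -1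
    ext i j
    fin_cases i <;> fin_cases j <;> simp [Matrix.mul_apply, Fin.sum_univ_two]
  have h2 : (2 : F) ≠ 0 := by
    intro h
    have h1 : ringChar F ≠ 2 := by
      intro h3
      have h4 := FiniteField.even_card_of_char_two h3
      rw [Nat.odd_iff] at hF
      omega
    exact h1 (by
      have := ringChar.charP F
      have : ringChar F ∣ 2 := (CharP.cast_eq_zero_iff F (ringChar F) 2).mp (by exact_mod_cast h)
      rcases (Nat.dvd_prime Nat.prime_two).mp this with h4 | h4
      · exfalso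
        exact CharP.char_ne_one F (ringChar F) h4
      · exact h4)
  have hyy : y * y = 1 := by rw [← pow_two, ← hy, pow_orderOf_eq_one]
  have h4 : e y * e y = 1 := by rw [← map_mul, hyy, map_one]
  have h5 : e y = -1 := by
    rcases Lib.PSL2Inv.sq_eq_one h2 h4 with h5 | h5
    · exfalso
      have h6 : y = 1 := e.injective (by rw [h5, map_one])
      rw [h6, orderOf_one] at hy
      omega
    · exact h5
  refine ⟨e.symm w, ?_⟩
  apply e.injective
  rw [map_mul, MulEquiv.apply_symm_apply, hw, h5]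

/-- The row for double covers. -/
def NoDblL2 (X : Type v) [Group X] : Prop :=
  ∀ (L : Type u) [Group L] [Finite L] (π : L →* X) (c : L), Dbl π c → ∀ (J : Subgroup L) (j : L), j ∈ J →
    j * j = c → ∀ α : MulAut X, orderOf α = 2 → CompIn (fix α) (J.map π) → IsL2 ↥(J.map π) → False

theorem fix_congr {X Y : Type*} [Group X] [Group Y] (e : X ≃* Y) (α : MulAut X) :
    fix (MulAut.congr e α) = (fix α).map e.toMonoidHom := by
  ext x
  rw [mem_fix]
  constructor
  · intro h
    refine ⟨e.symm x, ?_, e.apply_symm_apply x⟩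
    have h1 : e (α (e.symm x)) = x := h
    rw [SetLike.mem_coe, mem_fix]
    apply e.injective
    rw [h1, e.apply_symm_apply]
  · rintro ⟨y, hy, rfl⟩
    rw [SetLike.mem_coe, mem_fix] at hy
    change e (α (e.symm (e y))) = e y
    rw [e.symm_apply_apply, hy]

theorem compIn_equiv {X Y : Type*} [Group X] [Group Y] (e : X ≃* Y) {H K : Subgroup X} (h : CompIn H K) :
    CompIn (H.map e.toMonoidHom) (K.map e.toMonoidHom) := by
  have hle : K.map e.toMonoidHom ≤ H.map e.toMonoidHom := Subgroup.map_mono h.le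
  refine ⟨hle, ?_, ?_⟩
  · let f := H.equivMapOfInjective e.toMonoidHom e.injective
    have h2 : (K.map e.toMonoidHom).subgroupOf (H.map e.toMonoidHom) =
        (K.subgroupOf H).comap f.symm.toMonoidHom := by
      ext x
      rw [Subgroup.mem_subgroupOf, Subgroup.mem_comap, Subgroup.mem_subgroupOf]
      obtain ⟨y, rfl⟩ := f.surjective x
      have h3 : f.symm.toMonoidHom (f y) = y := f.symm_apply_apply y
      rw [h3]
      change e.toMonoidHom (y : X) ∈ K.map e.toMonoidHom ↔ (y : X) ∈ K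
      exact Subgroup.mem_map_iff_mem e.injective
    rw [h2]
    exact h.comp.1.comap _
  · have e1 := Subgroup.subgroupOfEquivOfLe hle
    have e2 := K.equivMapOfInjective e.toMonoidHom e.injective
    exact Components.isQuasisimple_of_mulEquiv (e2.trans e1.symm) h.quasi

theorem isL2_congr {A B : Type*} [Group A] [Group B] (e : A ≃* B) (h : IsL2 A) : IsL2 B := by
  obtain ⟨F, i1, i2, h1, h2, ⟨f⟩⟩ := h
  exact ⟨F, i1, i2, h1, h2, ⟨e.symm.trans f⟩⟩

/-- Change of the model. -/
theorem NoDblL2.congr {X : Type v} {Y : Type*} [Group X] [Group Y] (e : X ≃* Y) (h : NoDblL2.{u} Y) :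
    NoDblL2.{u} X := by
  intro L _ _ π c hD J j hj hjc α hα hJ hL2
  have hD' : Dbl (e.toMonoidHom.comp π) c := by
    have h1 := hD.of_equiv (MulEquiv.refl L) e
    exact h1
  have hmap : J.map (e.toMonoidHom.comp π) = (J.map π).map e.toMonoidHom := (Subgroup.map_map J _ _).symm
  have hα' : orderOf (MulAut.congr e α) = 2 := by
    rw [MulEquiv.orderOf_eq]; exact hα
  refine h L (e.toMonoidHom.comp π) c hD' J j hj hjc (MulAut.congr e α) hα' ?_ ?_
  · rw [fix_congr, hmap]
    exact compIn_equiv e hJ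
  · rw [hmap]
    exact isL2_congr ((J.map π).equivMapOfInjective e.toMonoidHom e.injective) hL2

/-- **Reduction to double covers.** -/
theorem noCov_of_dbl {X : Type u} [Group X] (hs : IsSimpleGroup X) (hna : ¬ IsMulCommutative X)
    (h2 : ∀ (N : Type u) [Group N], QsCyc N → Nonempty (N ⧸ center N ≃* X) → Nat.card ↥(center N) ∣ 2)
    (h : NoDblL2.{u} X) : NoCov X := by
  intro N _ _ f hf hker hp hperf J y hyJ hy hfy hSL α hα hJ hL2
  -- a character of the kernel which does not kill `y`
  have hyk : y ∈ f.ker := hfy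
  have hy1 : (⟨y, hyk⟩ : ↥f.ker) ≠ 1 := by
    intro h
    have h1 : y = 1 := congrArg Subtype.val h
    rw [h1, orderOf_one] at hy
    omega
  let _ : CommGroup ↥f.ker :=
    { (inferInstance : Group ↥f.ker) with
      mul_comm := fun a b => Subtype.ext (mem_center_iff.mp (hker b.2) a) }
  obtain ⟨χ, hχ⟩ := CommGroup.exists_apply_ne_one_of_hasEnoughRootsOfUnity ↥f.ker ℂ hy1
  let Z0 : Subgroup N := χ.ker.map f.ker.subtype
  have hZ0 : Z0 ≤ f.ker := map_subtype_le _
  have hZ0c : Z0 ≤ center N := hZ0.trans hker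
  have hyZ0 : y ∉ Z0 := by
    rintro ⟨z, hz, hzy⟩
    apply hχ
    have h1 : z = ⟨y, hyk⟩ := Subtype.ext hzy
    rw [← h1]
    exact hz
  have hnorm : Z0.Normal := ⟨fun a ha g => by
    rw [mem_center_iff.mp (hZ0c ha) g, mul_inv_cancel_right]; exact ha⟩
  let ρ : N →* N ⧸ Z0 := QuotientGroup.mk' Z0
  have hρ : Function.Surjective ρ := QuotientGroup.mk'_surjective Z0
  let g : N ⧸ Z0 →* X := QuotientGroup.lift Z0 f hZ0
  have hgρ : ∀ x, g (ρ x) = f x := fun x => rfl
  have hg : Function.Surjective g := fun x => by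
    obtain ⟨n, rfl⟩ := hf x
    exact ⟨ρ n, rfl⟩
  have hgker : g.ker = f.ker.map ρ := by
    ext x
    obtain ⟨n, rfl⟩ := hρ x
    rw [MonoidHom.mem_ker, hgρ]
    constructor
    · intro h
      exact ⟨n, h, rfl⟩
    · rintro ⟨m, hm, hmn⟩
      rw [← hgρ, ← hmn, hgρ]
      exact hm
  have hcen : center (N ⧸ Z0) = g.ker := by
    apply le_antisymm
    · intro x hx
      have h1 : g x ∈ center X := by
        rw [mem_center_iff]
        intro z
        obtain ⟨z, rfl⟩ := hg z
        rw [← map_mul, ← map_mul, mem_center_iff.mp hx z]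
      rw [Soft.center_eq_bot hna, mem_bot] at h1
      exact h1
    · rw [hgker]
      rintro _ ⟨n, hn, rfl⟩
      rw [mem_center_iff]
      intro z
      obtain ⟨z, rfl⟩ := hρ z
      rw [← map_mul, ← map_mul, mem_center_iff.mp (hker hn) z]
  have hperf' : commutator (N ⧸ Z0) = ⊤ := commutator_top_of_surj ρ hρ hperf
  have e : (N ⧸ Z0) ⧸ center (N ⧸ Z0) ≃* X :=
    (QuotientGroup.quotientMulEquivOfEq hcen).trans (QuotientGroup.quotientKerEquivOfSurjective g hg)
  -- the kernel is cyclic
  have hcyc : IsCyclic ↥(center (N ⧸ Z0)) := by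
    have e1 : ↥f.ker ⧸ χ.ker ≃* ↥χ.range := QuotientGroup.quotientKerEquivRange χ
    have : IsCyclic ↥χ.range := by
      have : Finite ↥χ.range := Finite.of_surjective _ χ.rangeRestrict_surjective
      infer_instance
    have h1 : IsCyclic (↥f.ker ⧸ χ.ker) := isCyclic_of_injective e1.toMonoidHom e1.injective
    let s : ↥f.ker →* ↥(center (N ⧸ Z0)) := (ρ.comp f.ker.subtype).codRestrict _ (by
      intro x
      rw [hcen, hgker]
      exact ⟨x, x.2, rfl⟩)
    have hs' : Function.Surjective s := by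
      rintro ⟨x, hx⟩
      rw [hcen, hgker] at hx
      obtain ⟨n, hn, rfl⟩ := hx
      exact ⟨⟨n, hn⟩, rfl⟩
    have hsk : χ.ker ≤ s.ker := by
      intro x hx
      rw [MonoidHom.mem_ker]
      apply Subtype.ext
      change ρ (x : N) = 1
      exact (QuotientGroup.eq_one_iff _).mpr ⟨x, hx, rfl⟩
    exact isCyclic_of_surjective (QuotientGroup.lift χ.ker s hsk) (fun z => by
      obtain ⟨x, rfl⟩ := hs' z
      exact ⟨(x : ↥f.ker ⧸ χ.ker), rfl⟩)
  have hpc : IsPGroup 2 ↥(center (N ⧸ Z0)) := by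
    rw [hcen, hgker]
    exact hp.map ρ
  have hqs : IsQuasisimple (N ⧸ Z0) := ⟨⟨hperf'⟩, Known.isSimple_congr e.symm hs⟩
  have hdvd := h2 (N ⧸ Z0) ⟨inferInstance, hqs, hpc, hcyc⟩ ⟨e⟩
  -- the involution
  set c : N ⧸ Z0 := ρ y with hc
  have hc1 : c ≠ 1 := fun h => hyZ0 ((QuotientGroup.eq_one_iff y).mp h)
  have hyy : y * y = 1 := by rw [← pow_two, ← hy, pow_orderOf_eq_one]
  have hcc : c * c = 1 := by rw [hc, ← map_mul, hyy, map_one]
  have hck : c ∈ center (N ⧸ Z0) := by
    rw [hcen]
    exact hfy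
  have hcard : Nat.card ↥(center (N ⧸ Z0)) = 2 := by
    rcases (Nat.dvd_prime Nat.prime_two).mp hdvd with h | h
    · rw [Subgroup.card_eq_one] at h
      rw [h, mem_bot] at hck
      exact absurd hck hc1
    · exact h
  have hD : Dbl g c := by
    refine ⟨⟨hc1, hcc, fun x => (mem_center_iff.mp hck x).symm, hperf'⟩, hg, fun x => ?_⟩
    constructor
    · intro hx
      have hx' : x ∈ center (N ⧸ Z0) := by rw [hcen]; exact hx
      obtain ⟨a, b, hab, hu⟩ := Nat.card_eq_two_iff.1 hcard
      have hall : ∀ z : ↥(center (N ⧸ Z0)), z = a ∨ z = b := by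
        intro z
        have : z ∈ ({a, b} : Set _) := by rw [hu]; trivial
        exact this
      by_contra hcon
      push Not at hcon
      have n1 : (⟨x, hx'⟩ : ↥(center (N ⧸ Z0))) ≠ 1 := fun h => hcon.1 (congrArg Subtype.val h)
      have n2 : (⟨x, hx'⟩ : ↥(center (N ⧸ Z0))) ≠ ⟨c, hck⟩ := fun h => hcon.2 (congrArg Subtype.val h)
      have n3 : (⟨c, hck⟩ : ↥(center (N ⧸ Z0))) ≠ 1 := fun h => hc1 (congrArg Subtype.val h)
      rcases hall ⟨x, hx'⟩ with h3 | h3 <;> rcases hall ⟨c, hck⟩ with h4 | h4 <;> rcases hall 1 with h5 | h5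
      · exact n1 (h3.trans h5.symm)
      · exact n2 (h3.trans h4.symm)
      · exact n1 (h3.trans h5.symm)
      · exact n3 (h4.trans h5.symm)
      · exact n3 (h4.trans h5.symm)
      · exact n1 (h3.trans h5.symm)
      · exact n2 (h3.trans h4.symm)
      · exact n1 (h3.trans h5.symm)
    · rintro (rfl | rfl)
      · exact map_one g
      · exact hfy
  obtain ⟨j, hj⟩ := exists_four hSL (y := ⟨y, hyJ⟩) (by rw [Subgroup.orderOf_mk]; exact hy)
  have hmap : (J.map ρ).map g = J.map f := by
    rw [Subgroup.map_map]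
    rfl
  refine h (N ⧸ Z0) g c hD (J.map ρ) (ρ j) ⟨j, j.2, rfl⟩ ?_ α hα (by rw [hmap]; exact hJ) (by rw [hmap]; exact hL2)
  rw [← map_mul, hc]
  exact congrArg ρ (congrArg Subtype.val hj)

end Cfsg.Agent.OddHalf.NI.Ex
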