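import Cfsg.Agent.OddHalf.NI.Ex.Cut
import Cfsg.Agent.OddHalf.NI.NotBigOf

/-!
# (EX): the cut of `NI.EX` into rows (helper803)

`ex_of`: `NI.EX` (of `NI/NotBigOf.lean`: `N / Z(N)` not of Lie type in odd characteristic) from the Gorenstein-Walter
theorem, S1738, `D5cover`, `D9.Cut.Mult` and the rows `RowsEX` (the fields of `Rows` except `three`). No multipliers of
groups of Lie type in odd characteristic.
-/

set_option autoImplicit false

namespace Cfsg.Agent.OddHalf.NI.Ex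

open Subgroup Cfsg Cfsg.Agent.OddHalf.Iface Cfsg.Agent.OddHalf.LieOddFam Cfsg.Agent.OddHalf.D9.Cut
open Cfsg.Agent.OddHalf.D3 (cj Comp)
open Cfsg.Agent.SignalizersComponents

universe u

/-- The rows of `NI.EX`. -/
structure RowsEX : Prop where
  u62 : XRow.{u} (fun X _ => XU62 X)
  sp62 : XRow.{u} (fun X _ => XSp62 X)
  o82 : XRow.{u} (fun X _ => XO82 X)
  g24 : XRow.{u} (fun X _ => XG24 X)
  f42 : XRow.{u} (fun X _ => XF42 X)
  te62 : XRow.{u} (fun X _ => X2E62 X)
  m12 : XRow.{u} (fun X _ => Spor.IsoM12 X)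
  j2 : XRow.{u} (fun X _ => Spor.IsoJ2 X)
  hs : XRow.{u} (fun X _ => Spor.IsoHS X)
  suz : XRow.{u} (fun X _ => Spor.IsoSuz X)
  ru : XRow.{u} (fun X _ => Spor.IsoRu X)
  fi22 : XRow.{u} (fun X _ => Spor.IsoFi22 X)
  co1 : XRow.{u} (fun X _ => Spor.IsoCo1 X)
  b : XRow.{u} (fun X _ => Spor.IsoB X)
  m22 : XRow.{u} (fun X _ => Spor.IsoM22 X)
  sz : XRow.{u} (fun X _ => XSz X)
  l34 : GRow.{u} (fun X _ => XL34 X)

/-- The rows of `NI.EX` from the rows of `NotBig`. -/
theorem Rows.toEX (R : Rows.{u}) : RowsEX.{u} :=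
  ⟨R.u62, R.sp62, R.o82, R.g24, R.f42, R.te62, R.m12, R.j2, R.hs, R.suz, R.ru, R.fi22, R.co1, R.b, R.m22, R.sz, R.l34⟩

/-- **The cut of `NI.EX`.** -/
theorem ex_of (hGW : RankOne.GW.{u}) (P : Stmts.P1738.{u}) (hD5 : D5cover.{u}) (M : D9.Cut.Mult.{u})
    (R : RowsEX.{u}) : EX.{u} := by
  intro G _ C t y J N ht hy hne hcomm hJ hyJ hSL hN hlt hinv hodd
  have := C.fin
  have := C.simple
  have E : Entr t y J N := ⟨ht, hy, hne, hcomm, hJ, hyJ, hSL, hN, hlt, hinv⟩
  have hc : CompOf y N := Final.compOf_of_comp hN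
  have hq := E.quasi
  have hz := E.center2 C
  have hzne := E.center_ne
  have hrk : ¬ PRankLE 2 1 ↥N := fun h => rankOne_false hGW C hy hc E.yN h
  have hna := Soft.quo_na hq
  have hNtop : N ≠ ⊤ := Soft.CompOf.ne_top C.na hy hc
  have hs : IsSimpleGroup (↥N ⧸ center ↥N) := hq.2
  have hK : IsKnownSimple' (↥N ⧸ center ↥N) := Known.known_quotient C.kproper N hNtop (center ↥N) hs hna
  by_cases halt : IsAlternating (↥N ⧸ center ↥N)
  · obtain ⟨n, hn, f⟩ := halt
    obtain ⟨h8, hcov⟩ := hD5 ↥N inferInstance hq hz hzne hrk n hn f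
    exact altCover_comp P C hy hc E.yN n h8 hcov
  have hX : LieTwo (↥N ⧸ center ↥N) ∨ IsSporadicGroup (↥N ⧸ center ↥N) := by
    rcases Known.classify hna hK with h | h | h | h
    · exact absurd h halt
    · exact absurd h hodd
    · exact Or.inl ⟨h, halt, hodd⟩
    · exact Or.inr h
  have ncf : NoCov (↥N ⧸ center ↥N) → False := E.false_of_noCov C
  rcases exc M hq hz hzne hX with h | h | h
  · rcases h with h | h | h | h | h | h | h | h | h | h | h | h | h | h
    · exact ncf (R.u62 _ hs hna h)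
    · exact ncf (R.sp62 _ hs hna h)
    · exact ncf (R.o82 _ hs hna h)
    · exact ncf (R.g24 _ hs hna h)
    · exact ncf (R.f42 _ hs hna h)
    · exact ncf (R.te62 _ hs hna h)
    · exact ncf (R.m12 _ hs hna h)
    · exact ncf (R.j2 _ hs hna h)
    · exact ncf (R.hs _ hs hna h)
    · exact ncf (R.suz _ hs hna h)
    · exact ncf (R.ru _ hs hna h)
    · exact ncf (R.fi22 _ hs hna h)
    · exact ncf (R.co1 _ hs hna h)
    · exact ncf (R.b _ hs hna h)
  · rcases h with h | h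
    · exact R.l34 G C t y J N E h
    · exact ncf (R.m22 _ hs hna h)
  · exact ncf (R.sz _ hs hna h)

end Cfsg.Agent.OddHalf.NI.Ex
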