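import Cfsg.Agent.OddHalf.NI.Props

/-!
# (EX), the entrance of node NI: the Props of the rows (helper803; text bb ODD #11012)

* `fix α`: the fixed points of an automorphism.
* `NoL2 X`: no involutory automorphism of `X` has a component `L₂(q)`, `q > 3` odd (13 of the 17 groups).
* `NoCov X`: the row of `X`, weaker: only `L₂(q)` which lift to `SL₂(q)` in a central extension of `X` by a 2-group
  (`M₁₂`, `J₂`, `HS`).
-/

set_option autoImplicit false

namespace Cfsg.Agent.OddHalf.NI.Ex

open Subgroup Cfsg Cfsg.Agent.OddHalf.Iface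

universe u

/-- The fixed points of an automorphism. -/
def fix {X : Type*} [Group X] (α : MulAut X) : Subgroup X where
  carrier := {x | α x = x}
  one_mem' := map_one α
  mul_mem' := by
    intro a b ha hb
    change α (a * b) = a * b
    rw [map_mul, show α a = a from ha, show α b = b from hb]
  inv_mem' := by
    intro a ha
    change α a⁻¹ = a⁻¹
    rw [map_inv, show α a = a from ha]

theorem mem_fix {X : Type*} [Group X] {α : MulAut X} {x : X} : x ∈ fix α ↔ α x = x := Iff.rfl

/-- `J ≅ L₂(F)`, `|F| > 3` odd. -/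
def IsL2 (J : Type*) [Group J] : Prop :=
  ∃ (F : Type) (_ : Field F) (_ : Fintype F), Odd (Fintype.card F) ∧ 3 < Fintype.card F ∧
    Nonempty (J ≃* Matrix.ProjectiveSpecialLinearGroup (Fin 2) F)

/-- **Row (1)**: no involutory automorphism of `X` has a component `L₂(q)`, `q > 3` odd. -/
def NoL2 (X : Type u) [Group X] : Prop :=
  ∀ α : MulAut X, orderOf α = 2 → ∀ J : Subgroup X, CompIn (fix α) J → ¬ IsL2 ↥J

/-- **Row**: no involutory automorphism of `X` has a component `L₂(q)`, `q > 3` odd, which lifts to `SL₂(q)` in a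
perfect central extension `N` of `X` by a 2-group. -/
def NoCov (X : Type u) [Group X] : Prop :=
  ∀ (N : Type u) [Group N] [Finite N] (f : N →* X), Function.Surjective f → f.ker ≤ center N →
    IsPGroup 2 ↥f.ker → commutator N = ⊤ → ∀ (J : Subgroup N) (y : N), y ∈ J → orderOf y = 2 → f y = 1 →
    IsSL ↥J → ∀ α : MulAut X, orderOf α = 2 → CompIn (fix α) (J.map f) → IsL2 ↥(J.map f) → False

theorem NoL2.noCov {X : Type u} [Group X] (h : NoL2 X) : NoCov X :=
  fun _ _ _ _ _ _ _ _ J _ _ _ _ _ α hα hJ h2 => h α hα (J.map _) hJ h2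

end Cfsg.Agent.OddHalf.NI.Ex
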