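import Cfsg.Agent.OddHalf.NI.Ex.L34
import Cfsg.Agent.OddHalf.NI.Ex.Cut

/-!
# (EX): the row `N / Z(N) = L₃(4)` (helper372)

`row : No44 → GRow XL34`: the only configuration which is possible inside `N` has `Z(N) ≥ 4 × 4`; `No44` says that
there is no component `N` of `C(y)`, `y ∈ N`, with `N / Z(N) = L₃(4)` and `Z(N) ≥ 4 × 4` (case 4 × 4 of I34).
-/

set_option autoImplicit false

namespace Cfsg.Agent.OddHalf.NI.Ex.L34

open Subgroup Cfsg Cfsg.Agent.OddHalf.Iface Cfsg.Agent.OddHalf.LieOddFam Cfsg.Agent.OddHalf.D9.Cut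
open Cfsg.Agent.OddHalf.D3 (cj Comp)
open Cfsg.Agent.ONType.Comm (cm)
open Cfsg.Agent.OddHalf.D9.L34Mult
open Matrix

universe u

/-- There is no intrinsic component `N ∋ y` of `C(y)` with `N / Z(N) ≅ L₃(4)` and `⟨a, b⟩ ≅ 4 × 4` in `Z(N)`. -/
def No44 : Prop :=
  ∀ (G : Type u) [Group G], Ctx G → ∀ (y : G) (N : Subgroup G), orderOf y = 2 → Comp y N → y ∈ N →
    XL34 (↥N ⧸ center ↥N) →
    (∃ a b : ↥N, a ∈ center ↥N ∧ b ∈ center ↥N ∧ a * a * (a * a) = 1 ∧ a * a ≠ 1 ∧ ((a * a : ↥N) : G) ≠ y ∧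
      ((b * b : ↥N) : G) = ((a * a : ↥N) : G) * y) → False

/-- a quaternion group and an element of order three in `SL₂(q)` -/
theorem sl_elts (F : Type*) [Field F] [Fintype F] :
    ∃ i j o : SpecialLinearGroup (Fin 2) F, i * i = -1 ∧ j * j = -1 ∧ i * j = -(j * i) ∧ o * o * o = 1 ∧
      o * i ≠ i * o := by
  obtain ⟨a, b, hab⟩ : ∃ a b : F, a ^ 2 + b ^ 2 = -1 := by
    obtain ⟨p, hp⟩ := CharP.exists F
    have : NeZero p := ⟨(CharP.char_is_prime F p).ne_zero⟩
    obtain ⟨a, b, h⟩ := CharP.sq_add_sq F p (-1)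
    exact ⟨a, b, by rw [h]; simp⟩
  refine ⟨⟨!![0, 1; -1, 0], by simp [det_fin_two]⟩, ⟨!![a, b; b, -a], by
      rw [det_fin_two_of]; linear_combination -hab⟩, ⟨!![0, 1; -1, -1], by simp [det_fin_two]⟩, ?_, ?_, ?_, ?_, ?_⟩
  · apply Subtype.ext
    change (!![0, 1; -1, 0] * !![0, 1; -1, 0] : Matrix (Fin 2) (Fin 2) F) = -1
    rw [Matrix.mul_fin_two]
    ext r s
    fin_cases r <;> fin_cases s <;> simp
  · apply Subtype.ext
    change (!![a, b; b, -a] * !![a, b; b, -a] : Matrix (Fin 2) (Fin 2) F) = -1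
    rw [Matrix.mul_fin_two]
    ext r s
    fin_cases r <;> fin_cases s <;> simp
    · linear_combination hab
    · ring
    · ring
    · linear_combination hab
  · apply Subtype.ext
    change (!![0, 1; -1, 0] * !![a, b; b, -a] : Matrix (Fin 2) (Fin 2) F) = -(!![a, b; b, -a] * !![0, 1; -1, 0])
    rw [Matrix.mul_fin_two, Matrix.mul_fin_two]
    ext r s
    fin_cases r <;> fin_cases s <;> simp
  · apply Subtype.ext
    change (!![0, 1; -1, -1] * !![0, 1; -1, -1] * !![0, 1; -1, -1] : Matrix (Fin 2) (Fin 2) F) = 1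
    rw [Matrix.mul_fin_two, Matrix.mul_fin_two]
    ext r s
    fin_cases r <;> fin_cases s <;> simp
  · intro h
    have h1 := congrArg (fun m : SpecialLinearGroup (Fin 2) F => (m : Matrix (Fin 2) (Fin 2) F)) h
    change (!![0, 1; -1, -1] * !![0, 1; -1, 0] : Matrix (Fin 2) (Fin 2) F) = !![0, 1; -1, 0] * !![0, 1; -1, -1] at h1
    rw [Matrix.mul_fin_two, Matrix.mul_fin_two] at h1
    have h2 := congrFun (congrFun h1 1) 0
    simp at h2

theorem exists_elts {B : Type*} [Group B] {F : Type} [Field F] [Fintype F] (hF : Odd (Fintype.card F))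
    (f : B ≃* SpecialLinearGroup (Fin 2) F) {y : B} (hy : orderOf y = 2) :
    ∃ e e' o : B, (e * e = 1 ∨ e * e = y) ∧ (e' * e' = 1 ∨ e' * e' = y) ∧ cm e e' = y ∧ o ^ 3 = 1 ∧
      o * e ≠ e * o := by
  obtain ⟨i, j, o, h1, h2, h3, h4, h5⟩ := sl_elts F
  have h20 : (2 : F) ≠ 0 := by
    intro h
    have hc : ringChar F ≠ 2 := by
      intro h3
      have h4 := FiniteField.even_card_of_char_two h3
      rw [Nat.odd_iff] at hF
      omega
    exact hc (by
      haveI := ringChar.charP F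
      have : ringChar F ∣ 2 := (CharP.cast_eq_zero_iff F (ringChar F) 2).mp (by exact_mod_cast h)
      rcases (Nat.dvd_prime Nat.prime_two).mp this with h4 | h4
      · exfalso
        exact CharP.char_ne_one F (ringChar F) h4
      · exact h4)
  have hneg : (-1 : SpecialLinearGroup (Fin 2) F) ≠ 1 := by
    intro h
    have h1 := congrArg (fun m : SpecialLinearGroup (Fin 2) F => (m : Matrix (Fin 2) (Fin 2) F) 0 0) h
    simp at h1
    apply h20
    linear_combination -h1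
  have hcen : f.symm (-1) ∈ center B := by
    rw [mem_center_iff]
    intro g
    apply f.injective
    rw [map_mul, map_mul, MulEquiv.apply_symm_apply]
    simp
  have hyeq : f.symm (-1) = y := by
    rcases Quot.sl_center hF f hy hcen with h | h
    · exfalso
      apply hneg
      rw [← f.apply_symm_apply (-1), h, map_one]
    · exact h
  have hi : i⁻¹ = -i := by
    rw [inv_eq_iff_mul_eq_one, mul_neg, h1, neg_neg]
  have hj : j⁻¹ = -j := by
    rw [inv_eq_iff_mul_eq_one, mul_neg, h2, neg_neg]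
  refine ⟨f.symm i, f.symm j, f.symm o, Or.inr ?_, Or.inr ?_, ?_, ?_, ?_⟩
  · rw [← map_mul, h1, hyeq]
  · rw [← map_mul, h2, hyeq]
  · unfold cm
    rw [← map_inv, ← map_inv, ← map_mul, ← map_mul, ← map_mul, ← hyeq, hi, hj]
    congr 1
    calc -i * -j * i * j = i * j * (i * j) := by rw [neg_mul_neg, mul_assoc (i * j)]
      _ = -(j * i) * (i * j) := by rw [← h3]
      _ = -(j * (i * i) * j) := by rw [neg_mul]; simp only [mul_assoc]
      _ = j * j := by rw [h1]; simp
      _ = -1 := h2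
  · rw [← map_pow, pow_succ, pow_two, h4, map_one]
  · intro h
    apply h5
    rw [← map_mul, ← map_mul] at h
    exact f.symm.injective h

/-- **The row `L₃(4)` of (EX).** -/
theorem row (h44 : No44.{u}) : GRow.{u} (fun X _ => XL34 X) := by
  intro G _ CC t y J N E hX
  have := CC.fin
  obtain ⟨F, iF, iF2, hF, ⟨φ⟩⟩ := id hX
  obtain ⟨π, C, hker⟩ := exists_ce hF φ
  have hperf : commutator ↥N = ⊤ := E.quasi.1.commutator_eq_top
  have hcenter : ∀ k : ↥N, π k = 1 ↔ k ∈ center ↥N := fun k => by rw [← hker, MonoidHom.mem_ker]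
  set α := auto t N E.inv with hα
  have hne : J.subgroupOf N ≠ ⊤ := by
    intro h1
    rw [subgroupOf_eq_top] at h1
    exact absurd h1 (not_le_of_gt E.lt)
  have hmem : (⟨y, E.yN⟩ : ↥N) ∈ J.subgroupOf N := E.mem
  obtain ⟨hb2, -, -⟩ := descend E.quasi (auto_mul E.ht E.inv) E.compSub hne hmem E.orderY E.center E.sl'
  have hα1 : α ≠ 1 := by
    intro h
    rw [← hα, h, bar_one, orderOf_one] at hb2
    exact absurd hb2 (by decide)
  obtain ⟨K, iK, iK2, hK, -, ⟨f⟩⟩ := E.sl'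
  have hyJ : orderOf (⟨⟨y, E.yN⟩, hmem⟩ : ↥(J.subgroupOf N)) = 2 := by
    rw [Subgroup.orderOf_mk]; exact E.orderY
  obtain ⟨e, e', o, h1, h2, h3, h4, h5⟩ := exists_elts hK f hyJ
  have hfix : ∀ x : ↥(J.subgroupOf N), α (x : ↥N) = x := fun x => mem_fix.mp (E.compSub.le x.2)
  have hsq : ∀ x : ↥(J.subgroupOf N), (x * x = 1 ∨ x * x = ⟨⟨y, E.yN⟩, hmem⟩) →
      π (x : ↥N) * π (x : ↥N) = 1 := by
    intro x hx
    rw [← map_mul, hcenter]
    rcases hx with hx | hx
    · have h6 := congrArg (Subtype.val) hx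
      change (x : ↥N) * x = 1 at h6
      rw [h6]; exact one_mem _
    · have h6 := congrArg (Subtype.val) hx
      change (x : ↥N) * x = ⟨y, E.yN⟩ at h6
      rw [h6]; exact E.center
  have hcm : cm (e : ↥N) (e' : ↥N) = ⟨y, E.yN⟩ := congrArg Subtype.val h3
  have hy1 : (⟨y, E.yN⟩ : ↥N) ≠ 1 := by
    intro h
    have h6 := E.orderY
    rw [h, orderOf_one] at h6
    exact absurd h6 (by decide)
  have hyy : (⟨y, E.yN⟩ : ↥N) * ⟨y, E.yN⟩ = 1 := by
    have h6 := pow_orderOf_eq_one (⟨y, E.yN⟩ : ↥N)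
    rwa [E.orderY, pow_two] at h6
  obtain ⟨a, ha, hv, ha4⟩ := core C hperf (fun k hk => (hcenter k).mpr (mem_center_iff.mpr fun m => (hk m).symm))
    (auto_mul E.ht E.inv) hα1 (hfix e) (hfix e') (hfix o) (hsq e h1) (hsq e' h2)
    (by rw [hcm, hcenter]; exact E.center) (by rw [hcm]; exact hy1)
    (by
      have h6 := congrArg Subtype.val h4
      change (o : ↥N) ^ 3 = 1 at h6
      rw [← map_pow, h6, map_one])
    (by
      intro h
      apply h5
      apply Subtype.ext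
      rw [hcenter, mem_center_iff] at h
      exact (h e).symm)
  rw [hcm] at hv
  have haZ := (hcenter a).mp ha
  refine h44 G CC y N E.hy E.compN E.yN hX ⟨a, α a, haZ, ?_, ha4, ?_, ?_, ?_⟩
  · rw [← map_center α]
    exact mem_map_of_mem _ haZ
  · intro h
    rw [h, map_one, one_mul] at hv
    exact hy1 hv.symm
  · intro h
    have h6 : a * a = ⟨y, E.yN⟩ := Subtype.ext h
    rw [h6, hyy, hfix ⟨⟨y, E.yN⟩, hmem⟩] at hv
    exact hy1 hv
  · have h6 : α a * α a = a * a * ⟨y, E.yN⟩ := by rw [← map_mul, hv]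
    exact congrArg Subtype.val h6

end Cfsg.Agent.OddHalf.NI.Ex.L34
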