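import Cfsg.Agent.OddHalf.NI.Ex.Cut
import Cfsg.Agent.OddHalf.NI.Ex.L34Row
import Cfsg.Agent.OddHalf.NI.NotBigOf
import Cfsg.Agent.OddHalf.U2.MultOf

/-!
# (EX): assembly (helper367)

* `XRows`: the 16 fields of `Ex.Rows` which are K-facts.
* `mulOdd`: the multipliers of `L₂(q)` and of the Ree groups.
* `rows_of`, `notBig_of`, `ex_of`: `NotBig`, `EX` from `XRows`, `No44`, `NI3`.
-/

set_option autoImplicit false

namespace Cfsg.Agent.OddHalf.NI.Ex.Final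

open Subgroup Cfsg Cfsg.Agent.OddHalf.Iface Cfsg.Agent.OddHalf.LieOddFam Cfsg.Agent.OddHalf.D9.Cut
open Cfsg.Agent.OddHalf.D3 (cj Comp)

universe u

theorem lieOdd_of_lieBig {X : Type u} [Group X] (h : LieBig X) : LieOdd X := by
  obtain ⟨F, iF, iF2, hodd, h3, h⟩ := h
  obtain ⟨p, hp⟩ := CharP.exists F
  have hpp : p.Prime := (CharP.char_is_prime_or_zero F p).resolve_right (fun h0 => by
    subst h0
    exact CharP.char_ne_zero_of_finite F 0 rfl)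
  have hp2 : p ≠ 2 := by
    rintro rfl
    obtain ⟨n, hn, hc⟩ := card_pow (F := F) 2
    rw [hc] at hodd
    exact (Nat.not_even_iff_odd.mpr hodd) ((Nat.even_pow' (by omega)).mpr even_two)
  refine ⟨p, hpp, hp2, ?_⟩
  rcases h with ⟨n, hn, e⟩ | ⟨m, hm, e⟩ | ⟨n, q, hq, hc, hn, e⟩ | ⟨m, hm, e⟩ | ⟨m, hm, e⟩ | ⟨m, a, b, hm, hab, e⟩ |
    e | e | e | e | e | ⟨q, hq, hq3, hc, e⟩ | ⟨q, hq, hq3, hc, e⟩
  · exact Or.inl ⟨F, iF, iF2, hp, n, by omega, fun _ => by omega, e⟩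
  · exact Or.inr (Or.inl ⟨F, iF, iF2, hp, m, hm, fun _ => by omega, e⟩)
  · exact Or.inr (Or.inr (Or.inl ⟨F, iF, iF2, hp, n, q, hc, hn, fun h => by omega, e⟩))
  · exact Or.inr (Or.inr (Or.inr (Or.inl ⟨F, iF, iF2, hp, m, hm, hodd, e⟩)))
  · exact Or.inr (Or.inr (Or.inr (Or.inr (Or.inl ⟨F, iF, iF2, hp, m, hm, e⟩))))
  · exact Or.inr (Or.inr (Or.inr (Or.inr (Or.inr (Or.inl ⟨F, iF, iF2, hp, m, a, b, hm, hab, e⟩)))))
  · exact Or.inr (Or.inr (Or.inr (Or.inr (Or.inr (Or.inr (Or.inl ⟨F, iF, iF2, hp, Or.inl ⟨by omega, e⟩⟩))))))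
  · exact Or.inr (Or.inr (Or.inr (Or.inr (Or.inr (Or.inr (Or.inl ⟨F, iF, iF2, hp, Or.inr (Or.inl e)⟩))))))
  · exact Or.inr (Or.inr (Or.inr (Or.inr (Or.inr (Or.inr (Or.inl
      ⟨F, iF, iF2, hp, Or.inr (Or.inr (Or.inl e))⟩))))))
  · exact Or.inr (Or.inr (Or.inr (Or.inr (Or.inr (Or.inr (Or.inl
      ⟨F, iF, iF2, hp, Or.inr (Or.inr (Or.inr (Or.inl e)))⟩))))))
  · exact Or.inr (Or.inr (Or.inr (Or.inr (Or.inr (Or.inr (Or.inl
      ⟨F, iF, iF2, hp, Or.inr (Or.inr (Or.inr (Or.inr e)))⟩))))))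
  · exact Or.inr (Or.inr (Or.inr (Or.inr (Or.inr (Or.inr (Or.inr (Or.inl
      ⟨F, iF, iF2, hp, q, hq, Or.inl ⟨hc, e⟩⟩)))))))
  · exact Or.inr (Or.inr (Or.inr (Or.inr (Or.inr (Or.inr (Or.inr (Or.inl
      ⟨F, iF, iF2, hp, q, hq, Or.inr ⟨hc, e⟩⟩)))))))

/-- The K-facts of (EX). -/
structure XRows : Prop where
  u62 : XRow.{u} (fun X _ => XU62 X)
  sp62 : XRow.{u} (fun X _ => XSp62 X)
  o82 : XRow.{u} (fun X _ => XO82 X)
  g24 : XRow.{u} (fun X _ => XG24 X)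
  f42 : XRow.{u} (fun X _ => XF42 X)
  te62 : XRow.{u} (fun X _ => X2E62 X)
  m12 : XRow.{u} (fun X _ => Spor.IsoM12 X)
  j2 : XRow.{u} (fun X _ => Spor.IsoJ2 X)
  hs : XRow.{u} (fun X _ => Spor.IsoHS X)
  suz : XRow.{u} (fun X _ => Spor.IsoSuz X)
  ru : XRow.{u} (fun X _ => Spor.IsoRu X)
  fi22 : XRow.{u} (fun X _ => Spor.IsoFi22 X)
  co1 : XRow.{u} (fun X _ => Spor.IsoCo1 X)
  b : XRow.{u} (fun X _ => Spor.IsoB X)
  m22 : XRow.{u} (fun X _ => Spor.IsoM22 X)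
  sz : XRow.{u} (fun X _ => XSz X)

/-- The multipliers of the groups of Lie type of rank 1 in odd characteristic, 2-parts. -/
theorem mulOdd : MulOdd.{u} where
  l2 := fun K _ hfin hq h2 hz hX => U2.MultOf.mult.l2 K ⟨hfin, hq, h2, hz⟩ hX
  ree := fun K _ hfin hq h2 hz => U2.MultOf.mult.ree K ⟨hfin, hq, h2, hz⟩

/-- NI(3) gives the row `three`. -/
theorem three_of (h3 : NI3.{u}) : GRow.{u} (fun X _ => Rk X 3) :=
  fun G _ C t y J N E hX => h3 G C t y J N E.ht E.hy E.ne E.comm E.comp E.mem E.sl E.compN E.lt E.inv hX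

theorem rows_of (R : XRows.{u}) (h44 : L34.No44.{u}) (h3 : NI3.{u}) : Rows.{u} where
  u62 := R.u62
  sp62 := R.sp62
  o82 := R.o82
  g24 := R.g24
  f42 := R.f42
  te62 := R.te62
  m12 := R.m12
  j2 := R.j2
  hs := R.hs
  suz := R.suz
  ru := R.ru
  fi22 := R.fi22
  co1 := R.co1
  b := R.b
  m22 := R.m22
  sz := R.sz
  l34 := L34.row h44
  three := three_of h3

/-- **`NotBig`.** -/
theorem notBig_of (hGW : RankOne.GW.{u}) (P : Stmts.P1738.{u}) (hD5 : D5cover.{u}) (M : D9.Cut.Mult.{u})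
    (R : XRows.{u}) (h44 : L34.No44.{u}) (h3 : NI3.{u}) : NotBig.{u} :=
  Ex.notBig hGW P hD5 M mulOdd (rows_of R h44 h3)

/-- **(EX)**, the field `ex` of `Assemble.Facts`. -/
theorem ex_of (hGW : RankOne.GW.{u}) (P : Stmts.P1738.{u}) (hD5 : D5cover.{u}) (M : D9.Cut.Mult.{u})
    (R : XRows.{u}) (h44 : L34.No44.{u}) (h3 : NI3.{u}) : EX.{u} := by
  intro G _ C t y J N ht hy hne hcomm hJ hyJ hSL hN hlt hinv hL
  refine notBig_of hGW P hD5 M R h44 h3 G C t y J N ht hy hne hcomm hJ hyJ hSL hN hlt hinv fun hB => hL ?_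
  exact lieOdd_of_lieBig hB

end Cfsg.Agent.OddHalf.NI.Ex.Final
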