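import Cfsg.Agent.OddHalf.NI.Ex.Defs

/-!
# (EX): good involutions (LEMMA EX of helper367, bb ODD #12744; form of helper803)

`Good z`: `C(z)` is 2-constrained and is generated by its elements of odd order and by its elements which have `z` as a
power. (Then the preimage of `z` in a central extension by a 2-group is centralised by the preimage of `C(z)`.)
-/

set_option autoImplicit false

namespace Cfsg.Agent.OddHalf.NI.Ex

open Subgroup

/-- `C(z)` is 2-constrained, and generated by its elements of odd order and by roots of `z`. -/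
structure Good {X : Type*} [Group X] (z : X) : Prop where
  con : ∃ Q : Subgroup X, IsPGroup 2 ↥Q ∧ Q ≤ centralizer ({z} : Set X) ∧
    (∀ h ∈ centralizer ({z} : Set X), ∀ q ∈ Q, h * q * h⁻¹ ∈ Q) ∧
    ∀ h ∈ centralizer ({z} : Set X), (∀ q ∈ Q, h * q = q * h) → h ∈ Q
  gen : centralizer ({z} : Set X) ≤
    Subgroup.closure {h | h ∈ centralizer ({z} : Set X) ∧ (Odd (orderOf h) ∨ z ∈ zpowers h)}

end Cfsg.Agent.OddHalf.NI.Ex
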