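import Cfsg.Agent.OddHalf.NI.Ex.GoodDef
import Cfsg.Agent.OddHalf.NI.CovTwo

/-!
# (EX): tools for good involutions (helper803)

* `le_closure_of_perfect`: a perfect subgroup is generated by its elements of odd order.
* `gens_of_sylow`: if the subgroup generated by the good elements of `C(z)` contains a Sylow 2-subgroup, it is `C(z)`.
* `gens_of_perfect`, `gens_of_two`: `C(z)` perfect; `C(z) = P ∪ xP` with `P` perfect and `x` a root of `z`.
-/

set_option autoImplicit false

namespace Cfsg.Agent.OddHalf.NI.Ex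

open Subgroup

variable {X : Type*} [Group X]

/-- The elements of odd order of `C(z)` and the roots of `z`. -/
def gens (z : X) : Set X := {h | h ∈ centralizer ({z} : Set X) ∧ (Odd (orderOf h) ∨ z ∈ zpowers h)}

theorem gens_le (z : X) : closure (gens z) ≤ centralizer ({z} : Set X) := (closure_le _).2 fun _ h => h.1

/-- A perfect subgroup is generated by its elements of odd order. -/
theorem le_closure_of_perfect [Finite X] {P : Subgroup X} (hP : ⁅P, P⁆ = P) :
    P ≤ closure {h | h ∈ P ∧ Odd (orderOf h)} := by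
  have h1 : commutator ↥P = ⊤ := by
    apply map_injective P.subtype_injective
    rw [_root_.commutator_def, map_commutator, ← MonoidHom.range_eq_map, range_subtype, hP]
  have h2 := CovTwo.gen_odd h1
  intro x hx
  have h3 : (⟨x, hx⟩ : P) ∈ closure {y : P | Odd (orderOf y)} := by
    rw [h2]
    exact mem_top _
  have h4 : (closure {y : P | Odd (orderOf y)}).map P.subtype ≤ closure {h | h ∈ P ∧ Odd (orderOf h)} := by
    rw [MonoidHom.map_closure]
    apply Subgroup.closure_mono
    rintro _ ⟨y, hy, rfl⟩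
    exact ⟨y.2, by rw [coe_subtype, orderOf_coe]; exact hy⟩
  exact h4 ⟨_, h3, rfl⟩

theorem perfect_le_gens [Finite X] {z : X} {P : Subgroup X} (hP : ⁅P, P⁆ = P)
    (hz : P ≤ centralizer ({z} : Set X)) : P ≤ closure (gens z) :=
  (le_closure_of_perfect hP).trans (closure_mono fun _ h => ⟨hz h.1, Or.inl h.2⟩)

/-- the good elements generate a normal subgroup of `C(z)` -/
theorem gens_conj {z : X} {g : X} (hg : g ∈ centralizer ({z} : Set X)) {x : X} (hx : x ∈ closure (gens z)) :
    g * x * g⁻¹ ∈ closure (gens z) := by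
  have h1 : closure (gens z) ≤ (closure (gens z)).comap (MulAut.conj g).toMonoidHom := by
    rw [closure_le]
    rintro h ⟨hh, ho⟩
    refine subset_closure ⟨mul_mem (mul_mem hg hh) (inv_mem hg), ?_⟩
    rcases ho with ho | ho
    · left
      have h2 : orderOf ((MulAut.conj g).toMonoidHom h) = orderOf h :=
        orderOf_injective (MulAut.conj g).toMonoidHom (MulAut.conj g).injective h
      rwa [h2]
    · right
      obtain ⟨i, hi⟩ := mem_zpowers_iff.1 ho
      refine mem_zpowers_iff.2 ⟨i, ?_⟩
      have h3 : g * z * g⁻¹ = z := by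
        rw [mem_centralizer_singleton_iff.1 hg, mul_inv_cancel_right]
      change (g * h * g⁻¹) ^ i = z
      rw [conj_zpow, hi, h3]
  exact h1 hx

/-- **If the good elements generate a subgroup which contains a Sylow 2-subgroup `S` of `C(z)`, they generate
`C(z)`.** -/
theorem gens_of_sylow [Finite X] {z : X} {S : Subgroup X} (hS : S ≤ closure (gens z)) {m : ℕ} (hm : Odd m)
    (hc : Nat.card ↥(centralizer ({z} : Set X)) ∣ m * Nat.card ↥S) :
    centralizer ({z} : Set X) ≤ closure (gens z) := by
  have : Fact (Nat.Prime 2) := ⟨Nat.prime_two⟩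
  set C := centralizer ({z} : Set X) with hC
  set T := closure (gens z) with hT
  have hTC : T ≤ C := gens_le z
  have hn : (T.subgroupOf C).Normal := ⟨fun x hx g => gens_conj g.2 hx⟩
  have hp : IsPGroup 2 (C ⧸ T.subgroupOf C) := by
    intro q
    obtain ⟨x, rfl⟩ := QuotientGroup.mk_surjective q
    obtain ⟨k, m, hm, hk⟩ := Nat.exists_eq_two_pow_mul_odd (orderOf_pos x).ne'
    refine ⟨k, ?_⟩
    rw [← QuotientGroup.mk_pow, QuotientGroup.eq_one_iff]
    have h1 : Odd (orderOf (x ^ 2 ^ k)) := by
      rw [orderOf_pow, hk, Nat.gcd_mul_right_left, Nat.mul_div_cancel_left _ (by positivity)]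
      exact hm
    refine subset_closure ⟨(x ^ 2 ^ k).2, Or.inl ?_⟩
    rw [← orderOf_injective C.subtype C.subtype_injective] at h1
    exact h1
  obtain ⟨k, hk⟩ := IsPGroup.iff_card.1 hp
  have h1 : Nat.card (C ⧸ T.subgroupOf C) * Nat.card ↥T = Nat.card ↥C := by
    rw [card_eq_card_quotient_mul_card_subgroup (T.subgroupOf C),
      Nat.card_congr (subgroupOfEquivOfLe hTC).toEquiv]
  rw [hk] at h1
  obtain ⟨j, hj⟩ := card_dvd_of_le hS
  have h2 : 2 ^ k ∣ m := by
    have h3 : 2 ^ k * j * Nat.card ↥S ∣ m * Nat.card ↥S := by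
      rw [← h1, hj] at hc
      have h4 : 2 ^ k * j * Nat.card ↥S = 2 ^ k * (Nat.card ↥S * j) := by ring
      rw [h4]
      exact hc
    exact (dvd_mul_right _ _).trans (Nat.dvd_of_mul_dvd_mul_right Nat.card_pos h3)
  have h5 : k = 0 := by
    rcases Nat.eq_zero_or_pos k with h | h
    · exact h
    · exfalso
      have h6 : 2 ∣ m := (dvd_pow_self 2 h.ne').trans h2
      exact (Nat.not_even_iff_odd.2 hm) (even_iff_two_dvd.2 h6)
  rw [h5, pow_zero, one_mul] at h1
  exact (eq_of_le_of_card_ge hTC h1.ge).ge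

/-- `C(z)` perfect -/
theorem gens_of_perfect [Finite X] {z : X} {P : Subgroup X} (hP : ⁅P, P⁆ = P)
    (hz : P = centralizer ({z} : Set X)) : centralizer ({z} : Set X) ≤ closure (gens z) := by
  rw [← hz]
  exact perfect_le_gens hP hz.le

/-- `C(z) = P ∪ x P` with `P` perfect, `x` a root of `z` -/
theorem gens_of_two [Finite X] {z : X} {P : Subgroup X} (hP : ⁅P, P⁆ = P)
    (hz : P ≤ centralizer ({z} : Set X)) {x : X} (hx : x ∈ centralizer ({z} : Set X)) (hxz : z ∈ zpowers x)
    (h : ∀ g ∈ centralizer ({z} : Set X), g ∈ P ∨ x⁻¹ * g ∈ P) :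
    centralizer ({z} : Set X) ≤ closure (gens z) := by
  have h1 := perfect_le_gens hP hz
  intro g hg
  rcases h g hg with h2 | h2
  · exact h1 h2
  · have h3 := mul_mem (subset_closure (show x ∈ gens z from ⟨hx, Or.inr hxz⟩)) (h1 h2)
    rwa [mul_inv_cancel_left] at h3

end Cfsg.Agent.OddHalf.NI.Ex
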