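import Cfsg.Agent.OddHalf.D9.L34Mult.Gamma

/-!
# (EX): involutory automorphisms of a cover of `PSL(3,4)` and non-commuting lifts (helper372)

`M` a perfect central extension of `PSL(3,4)`, `α` an automorphism of `M` of order 2 which fixes an element of order
three modulo the centre and two elements `e`, `e'` whose images are commuting involutions. If `e`, `e'` do not commute
in `M`, then `α` is of field type and there is a central element `a` with `α (a²) = a² [e, e']`, `a⁴ = 1`.
-/

set_option autoImplicit false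
set_option linter.constructorNameAsVariable false
set_option linter.unusedSectionVars false
set_option linter.unusedVariables false

namespace Cfsg.Agent.OddHalf.NI.Ex.L34

open Cfsg.Agent.SporadicA.FieldFour
open Cfsg.Agent.ONType.Psl
open Cfsg.Agent.ONType.Comm (cm cm_conj cm_mul_left cm_mul_right conj_central)
open Cfsg.Agent.LThreeFour
open Cfsg.Agent.OddHalf.D9.L34Mult
open Cfsg.Agent.OddHalf.D9.L34Mult.Gamma (conj_inj no_six tau_hh)

theorem graph_aux : ∀ (τ : Ty) (p : Code) (a b c : F4), τ.2.1 = true → a * b = 0 →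
    cact p τ ⟨a, b, c⟩ = ⟨a, b, c⟩ → a = 0 ∧ b = 0 := by
  decide +kernel

theorem field_aux : ∀ (d : Fin 3) (p : Code) (a b c : F4),
    cact p (true, false, d) ⟨a, b, c⟩ = ⟨a, b, c⟩ →
    pu (true, false, d) 0 1 a = a ∧ pu (true, false, d) 1 2 b = b := by
  decide +kernel

theorem sol_aux : ∀ (d : Fin 3) (a b : F4), pu (true, false, d) 0 1 a = a →
    pu (true, false, d) 1 2 b = b →
    pu (true, false, d) 0 1 1 * pu (true, false, d) 0 2 (ω * a + ω2 * (b * b)) =
      (ω * a + ω2 * (b * b)) + (a + b * b) := by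
  decide +kernel

theorem four_aux : ∀ s : F4, s * s * (s * s) = s := by decide

variable {M : Type*} [Group M] {π : M →* PSL3} (C : CE π)
include C

theorem cm_central_left {c : M} (hc : π c = 1) (x z : M) : cm (x * c) z = cm x z := by
  have h := C.cen c hc
  unfold cm
  calc (x * c)⁻¹ * z⁻¹ * (x * c) * z = c⁻¹ * (x⁻¹ * z⁻¹ * x) * (c * z) := by group
    _ = c⁻¹ * ((x⁻¹ * z⁻¹ * x * z) * c) := by rw [h z]; group
    _ = c⁻¹ * (c * (x⁻¹ * z⁻¹ * x * z)) := by rw [h]
    _ = x⁻¹ * z⁻¹ * x * z := by group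

theorem cm_central_right {c : M} (hc : π c = 1) (x z : M) : cm x (z * c) = cm x z := by
  have h := C.cen c hc
  unfold cm
  calc x⁻¹ * (z * c)⁻¹ * x * (z * c) = x⁻¹ * (c⁻¹ * (z⁻¹ * x * z * c)) := by group
    _ = x⁻¹ * (c⁻¹ * (c * (z⁻¹ * x * z))) := by rw [h]
    _ = x⁻¹ * z⁻¹ * x * z := by group

/-- the commutator of a lift of `t₀₂(1)` with a lift of `t₀₁(a) t₁₂(b) t₀₂(c)` -/
theorem cm_lift {e e' : M} (he : π e = t 0 2 1) {a b c : F4}
    (he' : π e' = t 0 1 a * t 1 2 b * t 0 2 c) : cm e e' = C.f a * C.f (b * b) := by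
  obtain ⟨z, hz, rfl⟩ := CE.eq_mul_of_map_eq ((C.map_x 0 2 (by decide) 1).trans he.symm)
  obtain ⟨z', hz', rfl⟩ := CE.eq_mul_of_map_eq (y := C.x 0 1 a * C.x 1 2 b * C.x 0 2 c)
    (y' := e') (by
      rw [map_mul, map_mul, C.map_x 0 1 (by decide), C.map_x 1 2 (by decide), C.map_x 0 2 (by decide)]
      exact he'.symm)
  rw [cm_central_left C hz, cm_central_right C hz']
  have h1 : cm (C.x 0 2 1) (C.x 0 1 a) = C.f a := by
    rw [C.cm_row 0 2 1 (by decide) (by decide) (by decide), C.F_eq, one_mul]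
  have h2 : cm (C.x 0 2 1) (C.x 1 2 b) = C.f (b * b) := by
    rw [C.cm_col 0 2 1 (by decide) (by decide) (by decide), C.F'_eq, one_mul, C.f'_eq]
  have h3 : cm (C.x 0 2 1) (C.x 0 2 c) = 1 := by
    have := C.comm_lift (i := 0) (j := 2) (by decide) (C.map_x 0 2 (by decide) 1)
      (C.map_x 0 2 (by decide) c)
    unfold cm
    calc (C.x 0 2 1)⁻¹ * (C.x 0 2 c)⁻¹ * C.x 0 2 1 * C.x 0 2 c
        = (C.x 0 2 c * C.x 0 2 1)⁻¹ * (C.x 0 2 1 * C.x 0 2 c) := by group
      _ = 1 := by rw [this.eq, inv_mul_cancel]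
  have c1 : ∀ m, C.f a * m = m * C.f a := C.f_cen a
  have c2 : ∀ m, C.f (b * b) * m = m * C.f (b * b) := C.f_cen (b * b)
  have h4 : cm (C.x 0 2 1) (C.x 0 1 a * C.x 1 2 b) = C.f a * C.f (b * b) := by
    rw [cm_mul_right, h1, h2, conj_central c1, c1]
  have c3 : ∀ m, C.f a * C.f (b * b) * m = m * (C.f a * C.f (b * b)) := by
    intro m
    rw [mul_assoc, c2, ← mul_assoc, c1, mul_assoc]
  rw [cm_mul_right, h4, h3, one_mul, conj_central c3]

/-- the normalised case -/
theorem core_aux (hperf : commutator M = ⊤) (b : MulAut M →* MulAut PSL3)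
    (hb : ∀ α m, b α (π m) = π (α m)) {α : MulAut M} (hα : α * α = 1) (hα1 : α ≠ 1) {e e' o : M}
    (he : α e = e) (he' : α e' = e') (ho : α o = o) (hπe : π e = t 0 2 1)
    (he2 : π e' * π e' = 1) (hc : π (cm e e') = 1) (hy : cm e e' ≠ 1) (ho3 : π o ^ 3 = 1)
    (ho1 : π o ≠ 1) :
    ∃ a, π a = 1 ∧ α (a * a) = a * a * cm e e' ∧ a * a * (a * a) = 1 := by
  have g1 : b α (t 0 2 1) = t 0 2 1 := by rw [← hπe, hb, he]
  have hcomm : π e' * t 0 2 1 = t 0 2 1 * π e' := by
    have h1 := Cfsg.Agent.ONType.Comm.cm_spec e e'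
    have h2 := congrArg π h1
    rw [map_mul, map_mul, map_mul, hc, mul_one, hπe] at h2
    exact h2.symm
  obtain ⟨a, b', c, hje⟩ := (Cfsg.Agent.StdL34.PslCent.cent_t02 _).1 hcomm
  have hyf := cm_lift C hπe hje
  have hab : a * b' = 0 := by
    have h1 : Cfsg.Agent.StdLThreeFour.Base.e a b' c * Cfsg.Agent.StdLThreeFour.Base.e a b' c = 1 := by
      have h2 : Cfsg.Agent.StdLThreeFour.Base.e a b' c = π e' := hje.symm
      rw [h2]; exact he2
    rw [Cfsg.Agent.StdLThreeFour.Facts1.e_sq] at h1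
    exact (Cfsg.Agent.StdLThreeFour.Facts1.e_one h1).2.2
  obtain ⟨p, τ, hcd⟩ := datPSL.exists_cd (α := b α) g1
  have hel : datPSL.el ⟨a, b', c⟩ = π e' := hje.symm
  have hfix : cact p τ ⟨a, b', c⟩ = ⟨a, b', c⟩ := by
    have h1 := hcd.apply ⟨a, b', c⟩
    rw [hel, hb, he', ← hel] at h1
    exact (datPSL.inj h1).symm
  have hty : datPSL.tyHom (b α) = ⟨τ⟩ := hcd.hasTy.tyHom
  have hsq : b α * b α = 1 := by rw [← map_mul, hα, map_one]
  obtain ⟨τ1, τ2, d⟩ := τ
  cases τ2 with
  | true =>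
    exfalso
    obtain ⟨h1, h2⟩ := graph_aux _ p a b' c rfl hab hfix
    apply hy
    rw [hyf, h1, h2, mul_zero, C.f_zero, one_mul]
  | false =>
    cases τ1 with
    | false =>
      exfalso
      have h1 : datPSL.tyHom (b α) = 1 := by
        apply sq_inner
        · rw [hty]; rfl
        · rw [← map_mul, hsq, map_one]
      obtain ⟨l, hl⟩ := datPSL.inner_iff.mp h1
      have hl1 : l ≠ 1 := by
        rintro rfl
        apply hα1
        apply C.eq_of_bar hperf b hb
        rw [hl, map_one, map_one]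
      have hl2 : l * l = 1 := by
        apply conj_inj
        rw [map_mul, map_one, ← hl]
        exact hsq
      have hlo : l * π o = π o * l := by
        have h2 : b α (π o) = π o := by rw [hb, ho]
        rw [hl, MulAut.conj_apply, mul_inv_eq_iff_eq_mul] at h2
        exact h2
      exact no_six hl1 hl2 ho1 ho3 hlo
    | true =>
      obtain ⟨m, hm⟩ := C.surj (datPSL.el p)
      have hτ : datPSL.IsTau (true, false, d) (b (MulAut.conj m * α)) := by
        rw [map_mul, CE.bar_conj C b hb, hm]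
        exact hcd
      have hx : ∀ i j : Fin 3, i ≠ j → ∀ w,
          (MulAut.conj m * α) (C.x i j w) = C.x i j (pu (true, false, d) i j w) := by
        intro i j hij w
        refine C.x_map (MulAut.conj m * α).toMonoidHom (Or.inr ?_) hij hij ?_
        · show π ((MulAut.conj m * α) C.h) = _
          rw [← hb, C.map_h]
          exact tau_hh hτ rfl
        · show π ((MulAut.conj m * α) (C.x i j w)) = _
          rw [← hb, C.map_x i j hij]
          exact hτ i j hij w
      have hαf : ∀ s, α (C.f s) = C.f (pu (true, false, d) 0 1 1 * pu (true, false, d) 0 2 s) := by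
        intro s
        have h1 : (MulAut.conj m * α) (C.f s) =
            C.f (pu (true, false, d) 0 1 1 * pu (true, false, d) 0 2 s) := by
          rw [← C.F_eq]
          show (MulAut.conj m * α) (cm (C.x 0 1 1) (C.x 0 2 s)) = cm _ _
          rw [← hx 0 1 (by decide) 1, ← hx 0 2 (by decide) s]
          unfold cm
          simp only [map_mul, map_inv]
        rw [MulAut.mul_apply, MulAut.conj_apply] at h1
        have h2 : ∀ x, C.f (pu (true, false, d) 0 1 1 * pu (true, false, d) 0 2 s) * x =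
            x * C.f (pu (true, false, d) 0 1 1 * pu (true, false, d) 0 2 s) := C.f_cen _
        calc α (C.f s) = m⁻¹ * (m * α (C.f s) * m⁻¹) * m := by group
          _ = _ := by rw [h1, conj_central h2]
      obtain ⟨k1, k2⟩ := field_aux d p a b' c hfix
      have key := sol_aux d a b' k1 k2
      obtain ⟨s, hs⟩ : ∃ s, s = ω * a + ω2 * (b' * b') := ⟨_, rfl⟩
      rw [← hs] at key
      refine ⟨C.g (s * s), C.g_map _, ?_, ?_⟩
      · rw [C.g_sq, four_aux, hαf, key, C.f_add s, C.f_add a, hyf]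
      · rw [C.g_sq, four_aux, C.f_sq]

theorem core (hperf : commutator M = ⊤) (hcen : ∀ k : M, (∀ m, k * m = m * k) → π k = 1)
    {α : MulAut M} (hα : α * α = 1) (hα1 : α ≠ 1) {e e' o : M}
    (he : α e = e) (he' : α e' = e') (ho : α o = o) (he1 : π e * π e = 1)
    (he2 : π e' * π e' = 1) (hc : π (cm e e') = 1) (hy : cm e e' ≠ 1) (ho3 : π o ^ 3 = 1)
    (ho1 : π o ≠ 1) :
    ∃ a, π a = 1 ∧ α (a * a) = a * a * cm e e' ∧ a * a * (a * a) = 1 := by
  obtain ⟨b, hb⟩ := C.exists_bar hcen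
  have hne : π e ≠ 1 := by
    intro h
    apply hy
    have h1 := C.cen e h e'
    unfold cm
    calc e⁻¹ * e'⁻¹ * e * e' = (e' * e)⁻¹ * (e * e') := by group
      _ = 1 := by rw [h1, inv_mul_cancel]
  obtain ⟨g, hg⟩ := Cfsg.Agent.StdLThreeFour.Facts1.inv_conj hne he1
  obtain ⟨g, rfl⟩ := C.surj g
  have cj : ∀ x, (MulAut.conj g * α * (MulAut.conj g)⁻¹) (g * x * g⁻¹) = g * α x * g⁻¹ := by
    intro x
    rw [MulAut.mul_apply, MulAut.mul_apply, ← map_inv, MulAut.conj_apply, MulAut.conj_apply,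
      inv_inv]
    congr 2
    congr 1
    group
  have hcm : cm (g * e * g⁻¹) (g * e' * g⁻¹) = cm e e' := by
    have h1 := cm_conj e e' g⁻¹
    rw [inv_inv] at h1
    rw [← h1]
    have h2 := conj_central (C.cen _ hc) g⁻¹
    rwa [inv_inv] at h2
  obtain ⟨a, h1, h2, h3⟩ := core_aux C hperf b hb (α := MulAut.conj g * α * (MulAut.conj g)⁻¹)
    (e := g * e * g⁻¹) (e' := g * e' * g⁻¹) (o := g * o * g⁻¹) (by
      calc _ = MulAut.conj g * (α * α) * (MulAut.conj g)⁻¹ := by group
        _ = 1 := by rw [hα]; group) (by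
      intro h
      apply hα1
      calc α = (MulAut.conj g)⁻¹ * (MulAut.conj g * α * (MulAut.conj g)⁻¹) * MulAut.conj g := by group
        _ = 1 := by rw [h]; group)
    (by rw [cj, he]) (by rw [cj, he']) (by rw [cj, ho])
    (by rw [map_mul, map_mul, map_inv]; exact hg)
    (by
      rw [map_mul, map_mul, map_inv]
      calc π g * π e' * (π g)⁻¹ * (π g * π e' * (π g)⁻¹) = π g * (π e' * π e') * (π g)⁻¹ := by group
        _ = 1 := by rw [he2]; group)
    (by rw [hcm, hc]) (by rw [hcm]; exact hy)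
    (by
      rw [map_mul, map_mul, map_inv, conj_pow, ho3]; group)
    (by
      intro h
      apply ho1
      rw [map_mul, map_mul, map_inv] at h
      calc π o = (π g)⁻¹ * (π g * π o * (π g)⁻¹) * π g := by group
        _ = 1 := by rw [h]; group)
  refine ⟨a, h1, ?_, h3⟩
  rw [hcm] at h2
  have hca := C.cen (a * a) (by rw [map_mul, h1, one_mul])
  have e1 : a * a = g * (a * a) * g⁻¹ := by rw [← hca g]; group
  have h4 : π (α (a * a)) = 1 := by rw [← hb, map_mul, h1, one_mul, map_one]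
  have hca' := C.cen _ h4
  calc α (a * a) = g * α (a * a) * g⁻¹ := by rw [← hca' g]; group
    _ = (MulAut.conj g * α * (MulAut.conj g)⁻¹) (g * (a * a) * g⁻¹) := (cj _).symm
    _ = (MulAut.conj g * α * (MulAut.conj g)⁻¹) (a * a) := by rw [← e1]
    _ = a * a * cm e e' := h2

end Cfsg.Agent.OddHalf.NI.Ex.L34
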