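import Cfsg.Agent.OddHalf.NI.Ex.OfSheet
import Cfsg.Agent.KFacts.AutLarge

/-!
# (EX): good involutions from a large extraspecial subgroup (helper604)

`hasGood_of_large` : `Large Q z`, `|X : C(z)|` odd, `C(z)` perfect: every automorphism of order two fixes a good
involution.
-/

set_option autoImplicit false

namespace Cfsg.Agent.OddHalf.NI.Ex

open Subgroup Cfsg.Agent.Co2Type.Quad Cfsg.Agent.KFacts

theorem perf_of_commutator {X : Type*} [Group X] {H : Subgroup X} (h : commutator H = ⊤) : ⁅H, H⁆ = H := by
  have h1 := congrArg (Subgroup.map H.subtype) h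
  rw [_root_.commutator_def, Subgroup.map_commutator, ← MonoidHom.range_eq_map, Subgroup.range_subtype] at h1
  exact h1

theorem good_of_large {X : Type*} [Group X] [Finite X] {Q : Subgroup X} {z : X} (h : Large Q z)
    (hp : ⁅centralizer ({z} : Set X), centralizer ({z} : Set X)⁆ = centralizer ({z} : Set X)) : Good z :=
  good_of_perfect (LargeExtra.Base.isPGroup h)
    (fun x hx => mem_centralizer_singleton_iff.2 (h.comm_z x hx))
    (fun g hg x hx => h.conj_mem g (mem_centralizer_singleton_iff.1 hg) x hx)
    (fun g hg hc => h.self g (mem_centralizer_singleton_iff.1 hg) hc) hp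

theorem hasGood_of_large {X : Type*} [Group X] [Finite X] {Q : Subgroup X} {z : X} (h : Large Q z)
    (hodd : Odd (centralizer ({z} : Set X)).index)
    (hp : ⁅centralizer ({z} : Set X), centralizer ({z} : Set X)⁆ = centralizer ({z} : Set X)) : HasGood X := by
  obtain ⟨S, hS⟩ := AutLarge.exists_sylow hodd
  have hQS := AutLarge.le_sylow h S hS
  refine hasGood_of h.z_sq h.z_ne ⟨S, hQS h.z_mem, fun x hx => mem_centralizer_singleton_iff.1 (hS hx), ?_⟩
    (good_of_large h hp)
  intro y hy hc
  have h1 : y ∈ Q := h.self y (hc z (hQS h.z_mem)).symm fun x hx => (hc x (hQS hx)).symm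
  exact h.cent y h1 fun x hx => (hc x (hQS hx)).symm

end Cfsg.Agent.OddHalf.NI.Ex
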