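import Cfsg.Agent.OddHalf.NI.Ex.GoodDef
import Cfsg.Agent.OddHalf.D8.JTwo.Sheet
import Cfsg.Agent.OddHalf.D8.WreathLam

/-!
# (EX): good involutions from the sheets of node D8 (helper604)

* `closure_odd` : a finite perfect group is generated by its elements of odd order;
* `good_of_sheet` : `SheetX z C(z) R` (a perfect 2-constrained centralizer) gives `Good z`;
* `exists_fixed` : an automorphism of order two fixes a conjugate of `z`, if `Z(S) = ⟨z⟩`;
* `HasGood X` : every automorphism of order two fixes a good involution; `hasGood_of_sheet`, `HasGood.congr`.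
-/

set_option autoImplicit false
set_option linter.style.haveILetI false

namespace Cfsg.Agent.OddHalf.NI.Ex

open Subgroup Cfsg.Agent.OddHalf.D8 Cfsg.Agent.OddHalf.D8.Sheet Cfsg.Agent.OddHalf.D8.JTwo.Sheet
open scoped Pointwise

section Perfect

/-- A finite perfect group is generated by its elements of odd order. -/
theorem closure_odd_top {Γ : Type*} [Group Γ] [Finite Γ] (h : ⁅(⊤ : Subgroup Γ), (⊤ : Subgroup Γ)⁆ = ⊤) :
    closure {g : Γ | Odd (orderOf g)} = ⊤ := by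
  set N := closure {g : Γ | Odd (orderOf g)} with hN
  have hn : N.Normal := by
    refine ⟨fun n hn g => ?_⟩
    have h1 : N.map (MulAut.conj g).toMonoidHom ≤ N := by
      rw [hN, MonoidHom.map_closure, closure_le]
      rintro _ ⟨x, hx, rfl⟩
      apply Subgroup.subset_closure
      change Odd (orderOf (MulAut.conj g x))
      rw [(MulAut.conj g).orderOf_eq]
      exact hx
    exact h1 ⟨n, hn, rfl⟩
  have h2 : IsPGroup 2 (Γ ⧸ N) := by
    intro x
    obtain ⟨g, rfl⟩ := QuotientGroup.mk_surjective x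
    obtain ⟨k, m, hm, hkm⟩ := Nat.exists_eq_two_pow_mul_odd (orderOf_pos g).ne'
    refine ⟨k, ?_⟩
    rw [← QuotientGroup.mk_pow, QuotientGroup.eq_one_iff]
    apply Subgroup.subset_closure
    have h3 : orderOf (g ^ 2 ^ k) ∣ m := by
      apply orderOf_dvd_of_pow_eq_one
      rw [← pow_mul, ← hkm, pow_orderOf_eq_one]
    exact hm.of_dvd_nat h3
  have h4 : ⁅(⊤ : Subgroup (Γ ⧸ N)), (⊤ : Subgroup (Γ ⧸ N))⁆ = ⊤ := by
    have h5 := congrArg (Subgroup.map (QuotientGroup.mk' N)) h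
    rw [map_commutator, ← MonoidHom.range_eq_map, MonoidHom.range_eq_top.2 (QuotientGroup.mk'_surjective N)] at h5
    exact h5
  have h6 := WreathLam.eq_bot_of_perfect (h2.of_equiv topEquiv.symm) h4
  rw [eq_top_iff]
  intro g _
  have h7 : (QuotientGroup.mk' N g) ∈ (⊤ : Subgroup (Γ ⧸ N)) := mem_top _
  rw [h6, mem_bot] at h7
  exact (QuotientGroup.eq_one_iff g).1 h7

theorem closure_odd {X : Type*} [Group X] [Finite X] {H : Subgroup X} (h : ⁅H, H⁆ = H) :
    H ≤ closure {g | g ∈ H ∧ Odd (orderOf g)} := by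
  have h1 : ⁅(⊤ : Subgroup H), (⊤ : Subgroup H)⁆ = ⊤ := by
    apply map_injective H.subtype_injective
    rw [map_commutator, ← MonoidHom.range_eq_map, range_subtype, h]
  have h2 := congrArg (Subgroup.map H.subtype) (closure_odd_top h1)
  rw [MonoidHom.map_closure, ← MonoidHom.range_eq_map, range_subtype] at h2
  refine h2.ge.trans ?_
  rw [closure_le]
  rintro _ ⟨x, hx, rfl⟩
  apply Subgroup.subset_closure
  refine ⟨x.2, ?_⟩
  change Odd (orderOf (x : X))
  rw [orderOf_coe]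
  exact hx

end Perfect

section Good

variable {X : Type*} [Group X]

theorem centralizer_map {Y : Type*} [Group Y] (e : X ≃* Y) (z : X) {y : Y} :
    y ∈ centralizer ({e z} : Set Y) ↔ e.symm y ∈ centralizer ({z} : Set X) := by
  rw [mem_centralizer_singleton_iff, mem_centralizer_singleton_iff]
  constructor
  · intro h
    apply e.injective
    rw [map_mul, map_mul, e.apply_symm_apply]
    exact h
  · intro h
    have := congrArg e h
    rwa [map_mul, map_mul, e.apply_symm_apply] at this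

/-- Transport along an isomorphism. -/
theorem Good.map {Y : Type*} [Group Y] (e : X ≃* Y) {z : X} (h : Good z) : Good (e z) where
  con := by
    obtain ⟨Q, h1, h2, h3, h4⟩ := h.con
    refine ⟨Q.map e.toMonoidHom, h1.map _, ?_, ?_, ?_⟩
    · rintro _ ⟨q, hq, rfl⟩
      change e q ∈ _
      rw [centralizer_map, e.symm_apply_apply]
      exact h2 hq
    · rintro y hy _ ⟨q, hq, rfl⟩
      rw [centralizer_map] at hy
      refine ⟨_, h3 _ hy q hq, ?_⟩
      change e (e.symm y * q * (e.symm y)⁻¹) = y * e q * y⁻¹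
      rw [map_mul, map_mul, map_inv, e.apply_symm_apply]
    · intro y hy hyq
      rw [centralizer_map] at hy
      refine ⟨_, h4 _ hy fun q hq => ?_, e.apply_symm_apply y⟩
      apply e.injective
      rw [map_mul, map_mul, e.apply_symm_apply]
      exact hyq (e q) ⟨q, hq, rfl⟩
  gen := by
    intro y hy
    rw [centralizer_map] at hy
    have h1 : y ∈ (closure {h | h ∈ centralizer ({z} : Set X) ∧ (Odd (orderOf h) ∨ z ∈ zpowers h)}).map
        e.toMonoidHom := ⟨_, h.gen hy, e.apply_symm_apply y⟩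
    rw [MonoidHom.map_closure] at h1
    refine closure_mono ?_ h1
    rintro _ ⟨x, ⟨hx, hx'⟩, rfl⟩
    change e x ∈ centralizer ({e z} : Set Y) ∧ (Odd (orderOf (e x)) ∨ e z ∈ zpowers (e x))
    rw [centralizer_map, e.symm_apply_apply, e.orderOf_eq]
    refine ⟨hx, hx'.imp id ?_⟩
    rintro ⟨k, hk⟩
    exact ⟨k, by
      change e x ^ k = e z
      rw [← map_zpow]
      exact congrArg e hk⟩

theorem Good.conj {z : X} (h : Good z) (g : X) : Good (g * z * g⁻¹) := h.map (MulAut.conj g)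

/-- A perfect, 2-constrained centralizer. -/
theorem good_of_perfect [Finite X] {z : X} {Q : Subgroup X} (h1 : IsPGroup 2 ↥Q)
    (h2 : Q ≤ centralizer ({z} : Set X)) (h3 : ∀ h ∈ centralizer ({z} : Set X), ∀ q ∈ Q, h * q * h⁻¹ ∈ Q)
    (h4 : ∀ h ∈ centralizer ({z} : Set X), (∀ q ∈ Q, h * q = q * h) → h ∈ Q)
    (hp : ⁅centralizer ({z} : Set X), centralizer ({z} : Set X)⁆ = centralizer ({z} : Set X)) : Good z where
  con := ⟨Q, h1, h2, h3, h4⟩
  gen := (closure_odd hp).trans (closure_mono fun _ hx => ⟨hx.1, Or.inl hx.2⟩)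

theorem good_of_sheet [Finite X] {z : X} {R : Subgroup X} (h : SheetX z (centralizer ({z} : Set X)) R) : Good z :=
  good_of_perfect h.R2 h.RP h.Rn h.cR h.perf

/-- Every automorphism of order two fixes a good involution. -/
def HasGood (X : Type*) [Group X] : Prop :=
  ∀ α : MulAut X, orderOf α = 2 → ∃ z : X, orderOf z = 2 ∧ α z = z ∧ Good z

theorem HasGood.congr {Y : Type*} [Group Y] (e : X ≃* Y) (h : HasGood X) : HasGood Y := by
  intro α hα
  obtain ⟨z, h1, h2, h3⟩ := h ((e.trans α).trans e.symm) (by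
    rw [← hα]
    exact orderOf_injective (MulAut.congr e.symm).toMonoidHom (MulAut.congr e.symm).injective α)
  refine ⟨e z, by rw [e.orderOf_eq, h1], ?_, h3.map e⟩
  have h4 := congrArg e h2
  change e (e.symm (α (e z))) = e z at h4
  rwa [e.apply_symm_apply] at h4

/-- An automorphism of order two fixes a conjugate of `z`, if `Z(S) = ⟨z⟩`. -/
theorem exists_fixed [Finite X] {z : X} (z1 : z ≠ 1)
    (syl : ∃ S : Sylow 2 X, z ∈ S ∧ (∀ x ∈ S, x * z = z * x) ∧ ∀ y ∈ S, (∀ x ∈ S, x * y = y * x) → y = 1 ∨ y = z)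
    {τ : MulAut X} (hτ : τ * τ = 1) : ∃ g : X, τ (g * z * g⁻¹) = g * z * g⁻¹ := by
  have hfact : Fact (Nat.Prime 2) := ⟨Nat.prime_two⟩
  obtain ⟨S, hzS, hcen, hcS⟩ := syl
  have hp : IsPGroup 2 (Subgroup.zpowers τ) := by
    intro ⟨g, hg⟩
    refine ⟨1, ?_⟩
    obtain ⟨k, rfl⟩ := Subgroup.mem_zpowers_iff.1 hg
    apply Subtype.ext
    show (τ ^ k) ^ (2 ^ 1) = 1
    rw [pow_one, pow_two, ← zpow_add, ← two_mul, zpow_mul, zpow_two, hτ, one_zpow]
  obtain ⟨P, hP⟩ := hp.nonempty_fixed_point_of_prime_not_dvd_card (Sylow 2 X) (by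
    intro h2
    have h1 := card_sylow_modEq_one 2 X
    unfold Nat.ModEq at h1
    omega)
  obtain ⟨g, rfl⟩ := MulAction.exists_smul_eq X S P
  refine ⟨g, ?_⟩
  have hfix : τ • (g • S) = g • S := hP ⟨τ, Subgroup.mem_zpowers τ⟩
  have hmem : ∀ y, y ∈ ((g • S : Sylow 2 X) : Subgroup X) ↔ g⁻¹ * y * g ∈ (S : Subgroup X) := by
    intro y
    rw [Sylow.coe_subgroup_smul, Subgroup.mem_pointwise_smul_iff_inv_smul_mem, ← map_inv]
    show g⁻¹ * y * g⁻¹⁻¹ ∈ (S : Subgroup X) ↔ _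
    rw [inv_inv]
  have hττ : ∀ y, τ (τ y) = y := fun y => congrArg (fun a : MulAut X => a y) hτ
  have hτS : ∀ y, y ∈ ((g • S : Sylow 2 X) : Subgroup X) → τ y ∈ ((g • S : Sylow 2 X) : Subgroup X) := by
    intro y hy
    have h1 : ((τ • (g • S) : Sylow 2 X) : Subgroup X) = ((g • S : Sylow 2 X) : Subgroup X) := by rw [hfix]
    rw [← h1]
    show τ y ∈ τ • ((g • S : Sylow 2 X) : Subgroup X)
    exact Subgroup.smul_mem_pointwise_smul y τ _ hy
  -- `g⁻¹ τ(z^g) g` lies in `Z(S)`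
  have hzg : g * z * g⁻¹ ∈ ((g • S : Sylow 2 X) : Subgroup X) := by
    rw [hmem]
    have e : g⁻¹ * (g * z * g⁻¹) * g = z := by group
    rw [e]; exact hzS
  have hw : g⁻¹ * τ (g * z * g⁻¹) * g ∈ S := (hmem _).1 (hτS _ hzg)
  have h1 : ∀ x ∈ S, x * (g⁻¹ * τ (g * z * g⁻¹) * g) = (g⁻¹ * τ (g * z * g⁻¹) * g) * x := by
    intro x hx
    have hx1 : g * x * g⁻¹ ∈ ((g • S : Sylow 2 X) : Subgroup X) := by
      rw [hmem]
      have e : g⁻¹ * (g * x * g⁻¹) * g = x := by group
      rw [e]; exact hx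
    have hx2 := hτS _ hx1
    rw [hmem] at hx2
    have h2 := hcen _ hx2
    have h3 : τ (g * x * g⁻¹) * (g * z * g⁻¹) = (g * z * g⁻¹) * τ (g * x * g⁻¹) := by
      calc τ (g * x * g⁻¹) * (g * z * g⁻¹) = g * ((g⁻¹ * τ (g * x * g⁻¹) * g) * z) * g⁻¹ := by group
        _ = g * (z * (g⁻¹ * τ (g * x * g⁻¹) * g)) * g⁻¹ := by rw [h2]
        _ = (g * z * g⁻¹) * τ (g * x * g⁻¹) := by group
    have h4 : τ (g * z * g⁻¹) * (g * x * g⁻¹) = (g * x * g⁻¹) * τ (g * z * g⁻¹) := by
      generalize g * x * g⁻¹ = t at h3 ⊢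
      generalize g * z * g⁻¹ = w at h3 ⊢
      have h5 := congrArg τ h3
      rw [map_mul, map_mul, hττ] at h5
      exact h5.symm
    calc x * (g⁻¹ * τ (g * z * g⁻¹) * g) = g⁻¹ * (g * x * g⁻¹ * τ (g * z * g⁻¹)) * g := by group
      _ = g⁻¹ * (τ (g * z * g⁻¹) * (g * x * g⁻¹)) * g := by rw [h4]
      _ = (g⁻¹ * τ (g * z * g⁻¹) * g) * x := by group
  rcases hcS _ hw h1 with h2 | h2
  · exfalso
    have h3 : τ (g * z * g⁻¹) = 1 := by
      calc τ (g * z * g⁻¹) = g * (g⁻¹ * τ (g * z * g⁻¹) * g) * g⁻¹ := by group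
        _ = 1 := by rw [h2]; group
    have h4 : g * z * g⁻¹ = 1 := τ.injective (by rw [h3, map_one])
    exact z1 (by
      calc z = g⁻¹ * (g * z * g⁻¹) * g := by group
        _ = 1 := by rw [h4]; group)
  · calc τ (g * z * g⁻¹) = g * (g⁻¹ * τ (g * z * g⁻¹) * g) * g⁻¹ := by group
      _ = g * z * g⁻¹ := by rw [h2]

theorem hasGood_of [Finite X] {z : X} (zz : z * z = 1) (z1 : z ≠ 1)
    (syl : ∃ S : Sylow 2 X, z ∈ S ∧ (∀ x ∈ S, x * z = z * x) ∧ ∀ y ∈ S, (∀ x ∈ S, x * y = y * x) → y = 1 ∨ y = z)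
    (h : Good z) : HasGood X := by
  intro α hα
  have h2 : α * α = 1 := by rw [← pow_two, ← hα, pow_orderOf_eq_one]
  obtain ⟨g, hg⟩ := exists_fixed z1 syl h2
  refine ⟨g * z * g⁻¹, ?_, hg, h.conj g⟩
  have h3 : orderOf (g * z * g⁻¹) = orderOf z := (MulAut.conj g).orderOf_eq z
  rw [h3]
  exact orderOf_eq_prime (by rw [pow_two, zz]) z1

theorem hasGood_of_sheet [Finite X] {z : X} {R : Subgroup X} (h : SheetX z (centralizer ({z} : Set X)) R) :
    HasGood X := hasGood_of h.zz h.z1 h.syl (good_of_sheet h)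

end Good

end Cfsg.Agent.OddHalf.NI.Ex
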