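import Cfsg.Agent.OddHalf.NI.Ex.Lemma
import Cfsg.Agent.OddHalf.NI.Ex.RankAut

/-!
# (EX): the rank criterion for constrained involutions (helper803)

* `con_of_char`: in a group of characteristic 2 type all involutions have constrained centralizers.
* `rank_false`: `α² = 1`, `A ≤ C_X(α)` elementary abelian, `|A| > 8`, all involutions of `A` constrained: no component
  `L₂(q)`, `q` odd, of `C_X(α)`.
-/

set_option autoImplicit false

namespace Cfsg.Agent.OddHalf.NI.Ex.RankCon

open Subgroup Cfsg Cfsg.Agent.OddHalf.Iface Cfsg.Agent.OddHalf.NI Cfsg.Agent.OddHalf.NI.Ex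

variable {X : Type*} [Group X]

/-- for an involution `z`: `N(⟨z⟩) = C(z)` -/
theorem normalizer_zpowers {z : X} (zz : z * z = 1) (z1 : z ≠ 1) :
    normalizer ((zpowers z : Subgroup X) : Set X) = centralizer ({z} : Set X) := by
  have hz : ∀ y, y ∈ zpowers z ↔ y = 1 ∨ y = z := by
    intro y
    constructor
    · intro hy
      obtain ⟨i, rfl⟩ := mem_zpowers_iff.1 hy
      rcases Int.even_or_odd i with ⟨k, rfl⟩ | ⟨k, rfl⟩
      · left
        rw [zpow_add, ← (Commute.refl z).mul_zpow, zz, one_zpow]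
      · right
        rw [two_mul, zpow_add, zpow_add, ← (Commute.refl z).mul_zpow, zz, one_zpow, one_mul, zpow_one]
    · rintro (rfl | rfl)
      · exact one_mem _
      · exact mem_zpowers y
  ext x
  rw [mem_centralizer_singleton_iff, mem_normalizer_iff]
  constructor
  · intro h
    have h1 := (h z).1 (mem_zpowers z)
    rcases (hz _).1 h1 with h2 | h2
    · exfalso
      apply z1
      calc z = x⁻¹ * (x * z * x⁻¹) * x := by group
        _ = 1 := by rw [h2]; group
    · exact mul_inv_eq_iff_eq_mul.1 h2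
  · intro h y
    have h3 : x * z * x⁻¹ = z := mul_inv_eq_iff_eq_mul.2 h
    rw [hz, hz]
    constructor
    · rintro (rfl | rfl)
      · left; group
      · right; exact h3
    · rintro (h4 | h4)
      · left
        calc y = x⁻¹ * (x * y * x⁻¹) * x := by group
          _ = 1 := by rw [h4]; group
      · right
        calc y = x⁻¹ * (x * y * x⁻¹) * x := by group
          _ = x⁻¹ * (x * z * x⁻¹) * x := by rw [h4, h3]
          _ = z := by group

/-- **In a group of characteristic 2 type all involutions are constrained.** -/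
theorem con_of_char {X : Type*} [Group X] [Finite X] (hC : IsCharacteristicTwoType X) {z : X} (zz : z * z = 1)
    (z1 : z ≠ 1) : Lemma.Con z := by
  have : Fact (Nat.Prime 2) := ⟨Nat.prime_two⟩
  have hR : IsPGroup 2 (zpowers z) := by
    rintro ⟨a, ha⟩
    obtain ⟨i, rfl⟩ := mem_zpowers_iff.1 ha
    refine ⟨1, Subtype.ext ?_⟩
    show (z ^ i) ^ (2 ^ 1) = 1
    rw [pow_one, pow_two, ← (Commute.refl z).mul_zpow, zz, one_zpow]
  have hR1 : zpowers z ≠ ⊥ := by
    rw [Ne, zpowers_eq_bot]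
    exact z1
  have h1 := hC.2 _ hR hR1
  rw [normalizer_zpowers zz z1] at h1
  set M : Subgroup X := centralizer ({z} : Set X) with hM
  have hchar : centralizer (pCore 2 ↥M : Set ↥M) ≤ pCore 2 ↥M := h1
  refine ⟨(pCore 2 ↥M).map M.subtype, (Lib.Cores.pCore_isPGroup 2).map _, map_subtype_le _, ?_, ?_⟩
  · rintro h hh _ ⟨q, hq, rfl⟩
    exact ⟨⟨h, hh⟩ * q * ⟨h, hh⟩⁻¹, (Lib.Cores.pCore_normal 2).conj_mem q hq ⟨h, hh⟩, rfl⟩
  · intro h hh hq
    refine ⟨⟨h, hh⟩, hchar ?_, rfl⟩
    rw [mem_centralizer_iff]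
    intro q hq'
    exact Subtype.ext (hq _ ⟨q, hq', rfl⟩).symm

/-- **The rank criterion.** -/
theorem rank_false {X : Type*} [Group X] [Finite X] {α : MulAut X} (hα : α * α = 1) {J : Subgroup X}
    (hJ : CompIn (fix α) J) (h2 : IsL2 ↥J) {A : Subgroup X} (hA : A ≤ fix α) (hA2 : ∀ a ∈ A, a * a = 1)
    (hcon : ∀ a ∈ A, a ≠ 1 → Lemma.Con a) (hc : 8 < Nat.card ↥A) : False := by
  have hn : ∀ a ∈ A, ∀ j ∈ J, a * j * a⁻¹ ∈ J := by
    intro a ha
    by_cases h1 : a = 1
    · intro j hj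
      rw [h1, one_mul, inv_one, mul_one]
      exact hj
    · exact ((hcon a ha h1).balance hα (hA ha) (hA2 a ha) hJ).1
  have hle : A ≤ normalizer (J : Set X) := by
    intro a ha
    rw [mem_normalizer_iff]
    refine fun j => ⟨hn a ha j, fun hj => ?_⟩
    have h3 := hn a⁻¹ (A.inv_mem ha) _ hj
    rwa [inv_inv, show a⁻¹ * (a * j * a⁻¹) * a = j by group] at h3
  let φ : ↥A →* MulAut ↥J := (normalizerMonoidHom J).comp (inclusion hle)
  have hφ : ∀ (a : ↥A) (j : ↥J), ((φ a j : ↥J) : X) = a * j * (a : X)⁻¹ := fun a j => rfl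
  have hinj : Function.Injective φ := by
    rw [injective_iff_map_eq_one]
    intro a h3
    by_contra h4
    have h5 : (a : X) ≠ 1 := fun h => h4 (Subtype.ext h)
    obtain ⟨j, hj, hne⟩ := ((hcon a a.2 h5).balance hα (hA a.2) (hA2 a a.2) hJ).2
    apply hne
    have h6 := hφ a ⟨j, hj⟩
    rw [h3] at h6
    have h7 : j = (a : X) * j * (a : X)⁻¹ := h6
    exact (mul_inv_eq_iff_eq_mul.1 h7.symm)
  obtain ⟨F, i, j, hF, -, ⟨e⟩⟩ := h2
  let R := GH.L2Aut.Rep.ofEquiv (GH.L2Aut.two_ne_zero_of_odd hF) e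
  have h3 := RankAut.card_le_eight R φ.range (by
    rintro _ ⟨a, rfl⟩
    rw [← map_mul]
    have : a * a = 1 := Subtype.ext (hA2 _ a.2)
    rw [this, map_one])
  have h4 : Nat.card ↥φ.range = Nat.card ↥A :=
    (Nat.card_congr (MonoidHom.ofInjective hinj).toEquiv).symm
  omega

end Cfsg.Agent.OddHalf.NI.Ex.RankCon
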