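import Cfsg.Agent.OddHalf.NI.Ex.GoodTools
import Cfsg.Agent.OddHalf.NI.Ex.Lemma
import Cfsg.Agent.OddHalf.NI.Ex.Cut
import Cfsg.Agent.OddHalf.NI.Ex.OfLarge
import Cfsg.Agent.OddHalf.D8.Fi22.KAll

/-!
# (EX), row `Fi22` (helper509)

`z = d d'` of class 2B, `P = C(d, d')` is perfect and `C(z) = P ∪ x P` with `x² = z`: `x = p d`, `p = c z c` an
involution interchanging `d` and `d'`, where the transposition `c` commutes neither with `d` nor with `d'`.
-/

set_option autoImplicit false

namespace Cfsg.Agent.OddHalf.NI.Ex.RowFi22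

open Subgroup Cfsg Cfsg.Agent.KFacts.FiTT Cfsg.Agent.OddHalf.D8.Fi22 Cfsg.Agent.SignalizersComponents

universe u

variable {K : Type*} [Group K] {T : Set K} {d d' : K} {R : Subgroup K}

/-- some transposition does not commute with `d` -/
theorem exists_one (F : Facts K d d' R) (k : KTrans K T) : ∃ c ∈ T, c * d ≠ d * c := by
  by_contra hn
  have hn' : ∀ c ∈ T, c * d = d * c := fun c hc => by
    by_contra h
    exact hn ⟨c, hc, h⟩
  have h1 : ∀ y : K, y * d = d * y := by
    have h2 : Subgroup.closure T ≤ centralizer {d} := by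
      rw [closure_le]
      intro c hc
      exact mem_centralizer_singleton_iff.2 (hn' c hc)
    intro y
    rw [k.gen] at h2
    exact mem_centralizer_singleton_iff.1 (h2 (mem_top y))
  obtain ⟨p, hp, -⟩ := F.swap
  apply F.ne
  rw [← hp, h1 p, mul_inv_cancel_right]

/-- some transposition commutes neither with `d` nor with `d'` -/
theorem exists_two (F : Facts K d d' R) (k : KTrans K T) :
    ∃ c ∈ T, c * d ≠ d * c ∧ c * d' ≠ d' * c := by
  by_contra hn
  have hn' : ∀ c ∈ T, c * d ≠ d * c → c * d' = d' * c := fun c hc h1 => by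
    by_contra h
    exact hn ⟨c, hc, h1, h⟩
  obtain ⟨c, hc, hcd⟩ := exists_one F k
  let H := centralizer ({d} : Set K)
  have hd'H : d' ∈ H := mem_centralizer_singleton_iff.2 F.comm.symm
  let x : H := ⟨d', hd'H⟩
  have key : normalClosure {x} ≤ (centralizer ({c} : Set K)).comap H.subtype := by
    rw [normalClosure, closure_le]
    intro y hy
    obtain ⟨a, ha, h2⟩ := Group.mem_conjugatesOfSet_iff.1 hy
    obtain rfl : a = x := ha
    obtain ⟨g, rfl⟩ := isConj_iff.1 h2
    change (g : K) * d' * (g : K)⁻¹ ∈ centralizer ({c} : Set K)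
    rw [mem_centralizer_singleton_iff]
    have hg : (g : K) * d = d * g := mem_centralizer_singleton_iff.1 g.2
    have hg' : (g : K)⁻¹ * d = d * (g : K)⁻¹ := by
      rw [inv_mul_eq_iff_eq_mul, ← mul_assoc, hg, mul_inv_cancel_right]
    have h3 := hn' ((g : K)⁻¹ * c * g) (by
      have := k.conj (g : K)⁻¹ c hc
      rwa [inv_inv] at this) (by
      intro h4
      apply hcd
      have h5 : (g : K) * ((g : K)⁻¹ * c * g * d) * (g : K)⁻¹ = g * (d * ((g : K)⁻¹ * c * g)) * (g : K)⁻¹ := by rw [h4]
      calc c * d = c * (g * d * (g : K)⁻¹) := by rw [hg]; group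
        _ = (g : K) * ((g : K)⁻¹ * c * g * d) * (g : K)⁻¹ := by group
        _ = g * (d * ((g : K)⁻¹ * c * g)) * (g : K)⁻¹ := h5
        _ = g * d * (g : K)⁻¹ * c := by group
        _ = d * c := by rw [hg]; group)
    calc (g : K) * d' * (g : K)⁻¹ * c = g * (d' * ((g : K)⁻¹ * c * g)) * (g : K)⁻¹ := by group
      _ = g * ((g : K)⁻¹ * c * g * d') * (g : K)⁻¹ := by rw [h3]
      _ = c * (g * d' * (g : K)⁻¹) := by group
  have hx : x ∈ normalClosure {x} := subset_normalClosure (Set.mem_singleton x)
  rcases Components.quasisimple_normal F.quasi _ (normalClosure_normal (s := {x})) with h | h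
  · rw [h] at key
    have h1 : ∀ y, y * d = d * y → c * y = y * c := by
      intro y hy
      have h2 := key (mem_top (⟨y, mem_centralizer_singleton_iff.2 hy⟩ : H))
      exact (mem_centralizer_singleton_iff.1 h2).symm
    rcases F.cc c h1 with rfl | rfl
    · exact hcd (by rw [one_mul, mul_one])
    · exact hcd rfl
  · have h1 := mem_center_iff.1 (h hx)
    have h2 : ∀ y, y * d = d * y → d' * y = y * d' := by
      intro y hy
      have h3 := congrArg Subtype.val (h1 ⟨y, mem_centralizer_singleton_iff.2 hy⟩)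
      exact h3.symm
    rcases F.cc d' h2 with h3 | h3
    · exact F.d'_ne h3
    · exact F.ne h3.symm

/-- a root of `z = d d'` which interchanges `d` and `d'` -/
theorem exists_root (F : Facts K d d' R) (k : KTrans K T) (hd : d ∈ T) (hd' : d' ∈ T) :
    ∃ x : K, x * d * x⁻¹ = d' ∧ x * d' * x⁻¹ = d ∧ x * x = d * d' := by
  obtain ⟨c, hc, h1, h2⟩ := exists_two F k
  have cc := k.sq c hc
  have r1 : c * d * c = d * c * d := (k.three c hc d hd).resolve_left h1
  have r2 : c * d' * c = d' * c * d' := (k.three c hc d' hd').resolve_left h2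
  have dd := F.dd
  have dd' := F.dd'
  have cm := F.comm
  have id : d⁻¹ = d := inv_eq_of_mul_eq_one_left dd
  -- `p = c d d' c`
  have pp : (c * (d * d') * c) * (c * (d * d') * c) = 1 := by
    calc (c * (d * d') * c) * (c * (d * d') * c) = c * (d * d') * (c * c) * (d * d') * c := by group
      _ = c * (d * (d' * d) * d') * c := by rw [cc]; group
      _ = c * ((d * d) * (d' * d')) * c := by rw [← cm]; group
      _ = 1 := by rw [dd, dd', mul_one, mul_one, cc]
  have e1 : d * d' * d = d' := by rw [cm, mul_assoc, dd, mul_one]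
  have e2 : d * (d * d') = d' := by rw [← mul_assoc, dd, one_mul]
  have pd : (c * (d * d') * c) * d * (c * (d * d') * c) = d' := by
    calc (c * (d * d') * c) * d * (c * (d * d') * c) = c * (d * d') * (c * d * c) * (d * d') * c := by group
      _ = c * (d * d' * d) * c * (d * (d * d')) * c := by rw [r1]; group
      _ = (c * d' * c) * d' * c := by rw [e1, e2]
      _ = d' * c * (d' * d') * c := by rw [r2]; group
      _ = d' * (c * c) := by rw [dd']; group
      _ = d' := by rw [cc, mul_one]
  obtain ⟨p, hp⟩ : ∃ p, p = c * (d * d') * c := ⟨_, rfl⟩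
  rw [← hp] at pp pd
  have pd' : p * d' * p = d := by
    calc p * d' * p = p * (p * d * p) * p := by rw [pd]
      _ = (p * p) * d * (p * p) := by group
      _ = d := by rw [pp, one_mul, mul_one]
  have ip : p⁻¹ = p := inv_eq_of_mul_eq_one_left pp
  refine ⟨p * d, ?_, ?_, ?_⟩
  · rw [mul_inv_rev, ip, id]
    calc p * d * d * (d * p) = p * ((d * d) * d) * p := by group
      _ = p * d * p := by rw [dd, one_mul]
      _ = d' := pd
  · rw [mul_inv_rev, ip, id]
    calc p * d * d' * (d * p) = p * (d * d' * d) * p := by group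
      _ = d := by rw [e1, pd']
  · calc p * d * (p * d) = (p * d * p) * d := by group
      _ = d * d' := by rw [pd, cm]

theorem good [Finite K] (F : Facts K d d' R) (k : KTrans K T) (hd : d ∈ T) (hd' : d' ∈ T) : Good (d * d') := by
  have zc : ∀ x ∈ centralizer ({d, d'} : Set K), x ∈ centralizer ({d * d'} : Set K) := by
    intro x hx
    rw [mem_centralizer_iff] at hx
    have h1 := hx d (by simp)
    have h2 := hx d' (by simp)
    rw [mem_centralizer_singleton_iff]
    calc x * (d * d') = x * d * d' := by group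
      _ = d * (x * d') := by rw [← h1]; group
      _ = d * d' * x := by rw [← h2]; group
  have mem : ∀ x : K, x * d = d * x → x * d' = d' * x → x ∈ centralizer ({d, d'} : Set K) := by
    intro x h1 h2
    rw [mem_centralizer_iff]
    rintro y (rfl | hy)
    · exact h1.symm
    · rw [Set.mem_singleton_iff] at hy
      rw [hy]
      exact h2.symm
  refine ⟨⟨R, F.R_two, fun x hx => zc x (F.R_le hx), fun g hg q hq =>
    F.R_normal g (mem_centralizer_singleton_iff.1 hg) q hq, fun g _ hc => ?_⟩, ?_⟩
  · rcases F.R_center g hc with rfl | rfl | rfl | rfl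
    · exact one_mem _
    · exact F.d_mem
    · exact F.d'_mem
    · exact mul_mem F.d_mem F.d'_mem
  · obtain ⟨x, h1, h2, h3⟩ := exists_root F k hd hd'
    have hx : x ∈ centralizer ({d * d'} : Set K) := by
      rw [mem_centralizer_singleton_iff, ← h3, mul_assoc]
    refine gens_of_two (P := centralizer ({d, d'} : Set K)) (perf_of_commutator F.perfect) zc hx ?_ ?_
    · rw [← h3, ← pow_two]
      exact pow_mem (mem_zpowers x) 2
    · intro g hg
      rcases F.cz g (mem_centralizer_singleton_iff.1 hg) with ⟨h4, h5⟩ | ⟨h4, h5⟩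
      · exact Or.inl (mem g h4 h5)
      · right
        apply mem
        · calc x⁻¹ * g * d = x⁻¹ * (g * d * g⁻¹) * g := by group
            _ = x⁻¹ * (x * d * x⁻¹) * g := by rw [h4, h1]
            _ = d * (x⁻¹ * g) := by group
        · calc x⁻¹ * g * d' = x⁻¹ * (g * d' * g⁻¹) * g := by group
            _ = x⁻¹ * (x * d' * x⁻¹) * g := by rw [h5, h2]
            _ = d' * (x⁻¹ * g) := by group

/-- **row `Fi22`** -/
theorem fi22 : XRow.{u} (fun X _ => Spor.IsoFi22 X) := by
  intro X _ _ _ _ hX
  obtain ⟨T, d, d', R, A⟩ := exists_all hX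
  obtain ⟨S, zS, zc, hu⟩ := A.basic.syl
  exact Lemma.noCov_of_sylow (MulEquiv.refl X) S zS A.basic.z1 A.basic.zz zc (fun u h1 h2 _ => hu u h1 h2)
    (good A.facts A.kt A.d_mem A.d'_mem)

end Cfsg.Agent.OddHalf.NI.Ex.RowFi22
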